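import Cfsg.Agent.FiThree.Normalizer
import Cfsg.Agent.Coset.Fi24Out.Out
import Cfsg.Agent.Coset.Fi24.Realization

/-!
The normaliser of the element of order 3, modulo it, is the presented group `Fi24`.
-/

set_option autoImplicit false
set_option linter.style.haveILetI false
set_option linter.unusedSectionVars false
set_option maxRecDepth 100000

namespace CfsgLib.FiThree

open CfsgLib Subgroup
open scoped commutatorElement

/-- Type M(24) along an isomorphism. -/
theorem type24_map {Q Q' : Type*} [Group Q] [Group Q'] (e : Q ≃* Q') (D : Set Q) (h : Cfsg.IsOfTypeM24 Q D) :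
    Cfsg.IsOfTypeM24 Q' (e '' D) := by
  obtain ⟨hZ, a, ha, c, hc, hac, h23, N, hN, ⟨eN⟩, ⟨eS⟩⟩ := h
  set T := {y : Q | y ∈ D ∧ y ≠ a ∧ Commute a y}
  set T' := {y : Q' | y ∈ e '' D ∧ y ≠ e a ∧ Commute (e a) y}
  have hT : e '' T = T' := TC23.image_nbset e D a
  refine ⟨?_, e a, ⟨a, ha, rfl⟩, e c, ⟨c, hc, rfl⟩, fun q => hac (by simpa using q.map e.symm.toMonoidHom), ?_, ?_⟩
  · rw [← CfsgLib.Quad.map_center_equiv e, hZ, Subgroup.map_bot]
  · let i : ↥(Subgroup.closure T) ≃* ↥(Subgroup.closure T') :=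
      ((Subgroup.closure T).equivMapOfInjective e.toMonoidHom e.injective).trans
        (MulEquiv.subgroupCongr (by rw [MonoidHom.map_closure, ← hT]; rfl))
    have hi : ∀ x : ↥(Subgroup.closure T), (i x : Q') = e x := fun x => rfl
    let j := QuotientGroup.congr (Subgroup.center ↥(Subgroup.closure T)) (Subgroup.center ↥(Subgroup.closure T')) i
      (CfsgLib.Quad.map_center_equiv i)
    have := Coset.Fi24.type23_map j _ h23
    convert this using 1
    ext p
    constructor
    · rintro ⟨x, hx, rfl⟩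
      obtain ⟨x, rfl⟩ := i.surjective x
      have hx' : (x : Q) ∈ T := by
        have : e (x : Q) ∈ e '' T := by rw [hT, ← hi]; exact hx
        exact e.injective.mem_set_image.1 this
      exact ⟨_, ⟨x, hx', rfl⟩, rfl⟩
    · rintro ⟨_, ⟨x, hx, rfl⟩, rfl⟩
      refine ⟨i x, ?_, rfl⟩
      show (i x : Q') ∈ T'
      rw [hi, ← hT]
      exact ⟨_, hx, rfl⟩
  · obtain ⟨j⟩ := TC23.quot_equiv e (T ∩ {y : Q | y ∈ D ∧ y ≠ c ∧ Commute c y})
      (show e '' _ = T' ∩ _ by rw [Set.image_inter e.injective, hT, TC23.image_nbset e D c])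
    have hn : (N.map j.toMonoidHom).Normal := hN.map _ j.surjective
    exact ⟨N.map j.toMonoidHom, hn, ⟨(N.equivMapOfInjective j.toMonoidHom j.injective).symm.trans eN⟩,
      ⟨(QuotientGroup.congr N (N.map j.toMonoidHom) j rfl).symm.trans eS⟩⟩

/-- Automorphisms of a simple group, counted. -/
theorem card_mulAut (H : Type*) [Group H] [Finite H] (hc : Subgroup.center H = ⊥) :
    Nat.card (MulAut H) = Nat.card H * Nat.card (Cfsg.Out H) := by
  have hinj : Function.Injective (MulAut.conj : H →* MulAut H) := by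
    rw [← MonoidHom.ker_eq_bot_iff]
    refine eq_bot_iff.2 fun x hx => ?_
    rw [← hc, mem_center_iff]
    intro y
    have h := DFunLike.congr_fun (MonoidHom.mem_ker.1 hx) y
    rw [MulAut.conj_apply, MulAut.one_apply, mul_inv_eq_iff_eq_mul] at h
    exact h.symm
  rw [Subgroup.card_eq_card_quotient_mul_card_subgroup (MulAut.conj : H →* MulAut H).range,
    Nat.card_congr (MonoidHom.ofInjective hinj).toEquiv.symm, mul_comm]

theorem conjNormal_injective {X : Type*} [Group X] (N : Subgroup X) [N.Normal]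
    (h : Subgroup.centralizer (N : Set X) = ⊥) : Function.Injective (MulAut.conjNormal : X →* MulAut ↥N) := by
  rw [← MonoidHom.ker_eq_bot_iff, eq_bot_iff, ← h]
  intro x hx
  rw [mem_centralizer_iff]
  intro y hy
  have := congrArg Subtype.val (DFunLike.congr_fun (MonoidHom.mem_ker.1 hx) ⟨y, hy⟩)
  rw [MulAut.conjNormal_apply, MulAut.one_apply, mul_inv_eq_iff_eq_mul] at this
  exact this.symm

/-- A group with a normal subgroup of index two isomorphic to the simple subgroup of `Fi24` and with trivial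
centraliser is `Fi24`. -/
theorem equiv_fi24 {W : Type*} [Group W] [Finite W] (M : Subgroup W) [M.Normal] (hM : M.index = 2)
    (e : ↥M ≃* Cfsg.Spor.Fi24') (hc : Subgroup.centralizer (M : Set W) = ⊥) :
    Nonempty (Cfsg.Spor.Fi24 ≃* W) := by
  haveI := Coset.Fi24.finite_group
  haveI := Coset.Fi24.isSimple
  let F := commutator Cfsg.Spor.Fi24
  have hF : Nat.card F * 2 = Nat.card Cfsg.Spor.Fi24 := by
    rw [show Nat.card F = 1255205709190661721292800 from Coset.Fi24.card_Fi24', Coset.Fi24.card_eq]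
  have hFi : F.index = 2 := by
    have h := Subgroup.card_mul_index F
    rw [← hF] at h
    exact mul_left_cancel₀ (Nat.card_pos).ne' h
  have hZ : Subgroup.center Cfsg.Spor.Fi24' = ⊥ := by
    rcases (inferInstance : (Subgroup.center Cfsg.Spor.Fi24').Normal).eq_bot_or_eq_top with h | h
    · exact h
    exfalso
    have hab : ∀ a b : Cfsg.Spor.Fi24', a * b = b * a := fun a b => (mem_center_iff.1 (h ▸ mem_top b) a)
    letI : CommGroup Cfsg.Spor.Fi24' := { (inferInstance : Group Cfsg.Spor.Fi24') with mul_comm := hab }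
    have hp := IsSimpleGroup.prime_card (α := Cfsg.Spor.Fi24')
    rw [Coset.Fi24.card_Fi24'] at hp
    norm_num at hp
  have hFc : Subgroup.centralizer (F : Set Cfsg.Spor.Fi24) = ⊥ := by
    refine eq_bot_iff.2 fun x hx => ?_
    by_cases h : x ∈ F
    · have : (⟨x, h⟩ : ↥F) ∈ Subgroup.center ↥F :=
        mem_center_iff.2 fun y => Subtype.ext (mem_centralizer_iff.1 hx y y.2)
      rw [show Subgroup.center ↥F = ⊥ from hZ] at this
      exact congrArg Subtype.val (Subgroup.mem_bot.1 this)
    · rw [← Coset.Fi24.center_eq_bot, mem_center_iff]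
      intro y
      by_cases hy : y ∈ F
      · exact mem_centralizer_iff.1 hx y hy
      · have hyx : y * x⁻¹ ∈ F := (Subgroup.mul_mem_iff_of_index_two hFi).2 (iff_of_false hy (inv_mem_iff.not.2 h))
        calc y * x = y * x⁻¹ * x * x := by group
          _ = x * (y * x⁻¹) * x := by rw [mem_centralizer_iff.1 hx _ hyx]
          _ = x * y := by group
  let f1 : Cfsg.Spor.Fi24 →* MulAut Cfsg.Spor.Fi24' := MulAut.conjNormal
  let f2 : W →* MulAut Cfsg.Spor.Fi24' := (MulAut.congr e).toMonoidHom.comp MulAut.conjNormal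
  have h1 : Function.Injective f1 := conjNormal_injective F hFc
  have h2 : Function.Injective f2 := (MulAut.congr e).injective.comp (conjNormal_injective M hc)
  have hA : Nat.card (MulAut Cfsg.Spor.Fi24') = Nat.card Cfsg.Spor.Fi24 := by
    rw [card_mulAut _ hZ, Coset.Fi24.card_out, ← hF]
  have hW : Nat.card W = Nat.card Cfsg.Spor.Fi24 := by
    rw [← Subgroup.card_mul_index M, hM, Nat.card_congr e.toEquiv, ← hF]
  exact ⟨(MulEquiv.ofBijective f1 ((Nat.bijective_iff_injective_and_card f1).2 ⟨h1, hA.symm⟩)).trans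
    (MulEquiv.ofBijective f2 ((Nat.bijective_iff_injective_and_card f2).2 ⟨h2, hW.trans hA.symm⟩)).symm⟩

end CfsgLib.FiThree
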