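import Cfsg.Agent.FiThree.RepsCheck

/-!
A part of the check of the short vectors.
-/

set_option autoImplicit false
set_option maxRecDepth 100000

namespace CfsgLib.FiThree

open CfsgLib.LeechFix

theorem run8 : runB (List.map decVec repCodes8) 1024 = true := by decide +kernel

theorem run9 : runB (List.map decVec repCodes9) 1152 = true := by decide +kernel

theorem run10 : runB (List.map decVec repCodes10) 1280 = true := by decide +kernel

theorem run11 : runB (List.map decVec repCodes11) 1408 = true := by decide +kernel

theorem run12 : runB (List.map decVec repCodes12) 1536 = true := by decide +kernel

theorem run13 : runB (List.map decVec repCodes13) 1664 = true := by decide +kernel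

theorem run14 : runB (List.map decVec repCodes14) 1792 = true := by decide +kernel

theorem run15 : runB (List.map decVec repCodes15) 1920 = true := by decide +kernel

end CfsgLib.FiThree
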