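import Cfsg.Agent.FiThree.RepsCheck

/-!
A part of the check of the short vectors.
-/

set_option autoImplicit false
set_option maxRecDepth 100000

namespace CfsgLib.FiThree

open CfsgLib.LeechFix

theorem run16 : runB (List.map decVec repCodes16) 2048 = true := by decide +kernel

theorem run17 : runB (List.map decVec repCodes17) 2176 = true := by decide +kernel

theorem run18 : runB (List.map decVec repCodes18) 2304 = true := by decide +kernel

theorem run19 : runB (List.map decVec repCodes19) 2432 = true := by decide +kernel

theorem run20 : runB (List.map decVec repCodes20) 2560 = true := by decide +kernel

theorem run21 : runB (List.map decVec repCodes21) 2688 = true := by decide +kernel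

theorem run22 : runB (List.map decVec repCodes22) 2816 = true := by decide +kernel

theorem run23 : runB (List.map decVec repCodes23) 2944 = true := by decide +kernel

end CfsgLib.FiThree
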