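import Cfsg.Agent.FiThree.RepsCheck

/-!
A part of the check of the short vectors.
-/

set_option autoImplicit false
set_option maxRecDepth 100000

namespace CfsgLib.FiThree

open CfsgLib.LeechFix

theorem run24 : runB (List.map decVec repCodes24) 3072 = true := by decide +kernel

theorem run25 : runB (List.map decVec repCodes25) 3200 = true := by decide +kernel

theorem run26 : runB (List.map decVec repCodes26) 3328 = true := by decide +kernel

theorem run27 : runB (List.map decVec repCodes27) 3456 = true := by decide +kernel

theorem run28 : runB (List.map decVec repCodes28) 3584 = true := by decide +kernel

theorem run29 : runB (List.map decVec repCodes29) 3712 = true := by decide +kernel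

theorem run30 : runB (List.map decVec repCodes30) 3840 = true := by decide +kernel

theorem run31 : runB (List.map decVec repCodes31) 3968 = true := by decide +kernel

end CfsgLib.FiThree
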