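import Cfsg.Agent.FiThree.RepsRun0
import Cfsg.Agent.FiThree.RepsRun1
import Cfsg.Agent.FiThree.RepsRun2
import Cfsg.Agent.FiThree.RepsRun3

/-!
The listed short vectors represent all fixed classes.
-/

set_option autoImplicit false
set_option maxRecDepth 100000

namespace CfsgLib.FiThree

open CfsgLib.LeechFix

theorem basis_ok : basOK bas = true ∧ fixOK bas [.mono sig3 0] = true ∧ bas.length = 12 := by decide +kernel

theorem span_ok : spanOK bas [.mono sig3 0] 3 nsum = true := by decide +kernel

theorem lengths_ok : repCodes0.length = 128 ∧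
    repCodes1.length = 128 ∧
    repCodes2.length = 128 ∧
    repCodes3.length = 128 ∧
    repCodes4.length = 128 ∧
    repCodes5.length = 128 ∧
    repCodes6.length = 128 ∧
    repCodes7.length = 128 ∧
    repCodes8.length = 128 ∧
    repCodes9.length = 128 ∧
    repCodes10.length = 128 ∧
    repCodes11.length = 128 ∧
    repCodes12.length = 128 ∧
    repCodes13.length = 128 ∧
    repCodes14.length = 128 ∧
    repCodes15.length = 128 ∧
    repCodes16.length = 128 ∧
    repCodes17.length = 128 ∧
    repCodes18.length = 128 ∧
    repCodes19.length = 128 ∧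
    repCodes20.length = 128 ∧
    repCodes21.length = 128 ∧
    repCodes22.length = 128 ∧
    repCodes23.length = 128 ∧
    repCodes24.length = 128 ∧
    repCodes25.length = 128 ∧
    repCodes26.length = 128 ∧
    repCodes27.length = 128 ∧
    repCodes28.length = 128 ∧
    repCodes29.length = 128 ∧
    repCodes30.length = 128 ∧
    repCodes31.length = 128 := by decide +kernel

theorem run_step {l c : List ℕ} {n k j : ℕ} (h : runB (List.map decVec l) 0 = true ∧ l.length = n ∧
      count64 (List.map decVec l) = k)
    (hc : runB (List.map decVec c) n = true) (hl : c.length = 128) (hj : count64 (List.map decVec c) = j) :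
    runB (List.map decVec (l ++ c)) 0 = true ∧ (l ++ c).length = n + 128 ∧
      count64 (List.map decVec (l ++ c)) = k + j := by
  obtain ⟨h1, h2, h3⟩ := h
  refine ⟨?_, by rw [List.length_append, h2, hl], ?_⟩
  · rw [List.map_append, runB_append, h1, List.length_map, h2, Nat.zero_add, hc]; rfl
  · rw [List.map_append, count64, List.countP_append, ← count64, ← count64, h3, hj]

theorem counts_ok : count64 (List.map decVec repCodes0) = 51 ∧
    count64 (List.map decVec repCodes1) = 58 ∧
    count64 (List.map decVec repCodes2) = 46 ∧
    count64 (List.map decVec repCodes3) = 50 ∧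
    count64 (List.map decVec repCodes4) = 50 ∧
    count64 (List.map decVec repCodes5) = 54 ∧
    count64 (List.map decVec repCodes6) = 50 ∧
    count64 (List.map decVec repCodes7) = 46 ∧
    count64 (List.map decVec repCodes8) = 54 ∧
    count64 (List.map decVec repCodes9) = 50 ∧
    count64 (List.map decVec repCodes10) = 54 ∧
    count64 (List.map decVec repCodes11) = 58 ∧
    count64 (List.map decVec repCodes12) = 58 ∧
    count64 (List.map decVec repCodes13) = 46 ∧
    count64 (List.map decVec repCodes14) = 58 ∧
    count64 (List.map decVec repCodes15) = 54 ∧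
    count64 (List.map decVec repCodes16) = 54 ∧
    count64 (List.map decVec repCodes17) = 58 ∧
    count64 (List.map decVec repCodes18) = 54 ∧
    count64 (List.map decVec repCodes19) = 50 ∧
    count64 (List.map decVec repCodes20) = 42 ∧
    count64 (List.map decVec repCodes21) = 54 ∧
    count64 (List.map decVec repCodes22) = 58 ∧
    count64 (List.map decVec repCodes23) = 62 ∧
    count64 (List.map decVec repCodes24) = 46 ∧
    count64 (List.map decVec repCodes25) = 50 ∧
    count64 (List.map decVec repCodes26) = 46 ∧
    count64 (List.map decVec repCodes27) = 58 ∧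
    count64 (List.map decVec repCodes28) = 50 ∧
    count64 (List.map decVec repCodes29) = 62 ∧
    count64 (List.map decVec repCodes30) = 66 ∧
    count64 (List.map decVec repCodes31) = 54 := by decide +kernel

theorem reps_facts : runB reps 0 = true ∧ (List.map decVec (repCodes0 ++ repCodes1 ++ repCodes2 ++ repCodes3 ++ repCodes4 ++ repCodes5 ++ repCodes6 ++ repCodes7 ++ repCodes8 ++ repCodes9 ++ repCodes10 ++ repCodes11 ++ repCodes12 ++ repCodes13 ++ repCodes14 ++ repCodes15 ++ repCodes16 ++ repCodes17 ++ repCodes18 ++ repCodes19 ++ repCodes20 ++ repCodes21 ++ repCodes22 ++ repCodes23 ++ repCodes24 ++ repCodes25 ++ repCodes26 ++ repCodes27 ++ repCodes28 ++ repCodes29 ++ repCodes30 ++ repCodes31)).length = 4096 ∧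
    count64 reps = 1701 := by
  obtain ⟨h0, h1, h2, h3, h4, h5, h6, h7, h8, h9, h10, h11, h12, h13, h14, h15, h16, h17, h18, h19, h20, h21, h22, h23, h24, h25, h26, h27, h28, h29, h30, h31⟩ := lengths_ok
  obtain ⟨c0, c1, c2, c3, c4, c5, c6, c7, c8, c9, c10, c11, c12, c13, c14, c15, c16, c17, c18, c19, c20, c21, c22, c23, c24, c25, c26, c27, c28, c29, c30, c31⟩ := counts_ok
  have p0 : runB (List.map decVec repCodes0) 0 = true ∧ repCodes0.length = 128 ∧ count64 (List.map decVec repCodes0) = 51 := ⟨run0, h0, c0⟩
  have p1 := run_step p0 run1 h1 c1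
  have p2 := run_step p1 run2 h2 c2
  have p3 := run_step p2 run3 h3 c3
  have p4 := run_step p3 run4 h4 c4
  have p5 := run_step p4 run5 h5 c5
  have p6 := run_step p5 run6 h6 c6
  have p7 := run_step p6 run7 h7 c7
  have p8 := run_step p7 run8 h8 c8
  have p9 := run_step p8 run9 h9 c9
  have p10 := run_step p9 run10 h10 c10
  have p11 := run_step p10 run11 h11 c11
  have p12 := run_step p11 run12 h12 c12
  have p13 := run_step p12 run13 h13 c13
  have p14 := run_step p13 run14 h14 c14
  have p15 := run_step p14 run15 h15 c15
  have p16 := run_step p15 run16 h16 c16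
  have p17 := run_step p16 run17 h17 c17
  have p18 := run_step p17 run18 h18 c18
  have p19 := run_step p18 run19 h19 c19
  have p20 := run_step p19 run20 h20 c20
  have p21 := run_step p20 run21 h21 c21
  have p22 := run_step p21 run22 h22 c22
  have p23 := run_step p22 run23 h23 c23
  have p24 := run_step p23 run24 h24 c24
  have p25 := run_step p24 run25 h25 c25
  have p26 := run_step p25 run26 h26 c26
  have p27 := run_step p26 run27 h27 c27
  have p28 := run_step p27 run28 h28 c28
  have p29 := run_step p28 run29 h29 c29
  have p30 := run_step p29 run30 h30 c30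
  have p31 := run_step p30 run31 h31 c31
  refine ⟨p31.1, ?_, p31.2.2⟩
  rw [List.length_map]
  exact p31.2.1

theorem reps_run : runB reps 0 = true ∧ reps.length = 4096 := ⟨reps_facts.1, reps_facts.2.1⟩

theorem reps_ok : repsOK bas reps = true := by
  refine List.all_eq_true.2 fun m hm => ?_
  rw [List.mem_range, basis_ok.2.2] at hm
  have h := runB_getD reps 0 reps_run.1 m (by rw [reps_run.2]; exact hm)
  rw [Nat.zero_add] at h
  exact h

theorem count_reps : count64 reps = 1701 := reps_facts.2.2

theorem frames_le : ((List.range (2 ^ bas.length)).filter fun m =>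
    decide (m ≠ 0) && normL (reps.getD m []) == 64).length ≤ 1701 := by
  rw [← count_reps, basis_ok.2.2]
  have e : (List.range 4096).map (fun m => reps.getD m []) = reps := by
    refine List.ext_getElem (by simp [reps_run.2]) fun i h1 h2 => ?_
    simp [h2]
  conv_rhs => rw [← e, count64, List.countP_map]
  rw [List.countP_eq_length_filter]
  refine List.Sublist.length_le (List.monotone_filter_right _ ?_)
  intro m hm
  simp only [Bool.and_eq_true] at hm
  exact hm.2

end CfsgLib.FiThree
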