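/-
The 3-central element of order 3 of the group of the code, its centraliser there and a bound for
the centraliser in the automorphism group of the lattice.
-/
import Cfsg.Agent.FiThree.Reps
import Cfsg.Agent.Golay.PrimeCentralizer
import Cfsg.Agent.Leech.Order

set_option autoImplicit false
set_option linter.constructorNameAsVariable false
set_option maxRecDepth 100000

namespace CfsgLib.FiThree

open Cfsg CfsgLib.Golay CfsgLib.Leech CfsgLib.LeechFix CfsgLib.Golay.Cert

attribute [local irreducible] shortVecs halfTable quarterTable codeFinset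

theorem perms_ok : genOK sig3 = true ∧ genOK inv3 = true ∧ genOK sylA = true ∧ genOK sylB = true := by
  decide +kernel

/-- The element of order 3. -/
noncomputable def σ : M24 := (genOK_spec perms_ok.1).choose

theorem toList_σ : toList (σ : Equiv.Perm GolayPt) = sig3 := (genOK_spec perms_ok.1).choose_spec

/-- An element inverting it. -/
noncomputable def τ : M24 := (genOK_spec perms_ok.2.1).choose

theorem toList_τ : toList (τ : Equiv.Perm GolayPt) = inv3 := (genOK_spec perms_ok.2.1).choose_spec

theorem sig_facts : compL (compL sig3 sig3) sig3 = List.range 24 ∧ sig3 ≠ List.range 24 ∧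
    compL inv3 sig3 = compL (compL sig3 sig3) inv3 ∧ compL inv3 sig3 ≠ compL sig3 inv3 := by
  decide +kernel

theorem toList_σ_sq : toList ((σ ^ 2 : M24) : Equiv.Perm GolayPt) = compL sig3 sig3 := by
  rw [pow_two, Subgroup.coe_mul, toList_mul, toList_σ]

theorem orderOf_σ : orderOf σ = 3 := by
  haveI : Fact (Nat.Prime 3) := ⟨by norm_num⟩
  refine orderOf_eq_prime (toList_coe_injective ?_) fun e => ?_
  · show toList ((σ ^ 3 : M24) : Equiv.Perm GolayPt) = toList ((1 : M24) : Equiv.Perm GolayPt)
    rw [pow_succ, Subgroup.coe_mul, toList_mul, toList_σ_sq, toList_σ, OneMemClass.coe_one, toList_one]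
    exact sig_facts.1
  · have := congrArg (fun x : M24 => toList (x : Equiv.Perm GolayPt)) e
    simp only [toList_σ, OneMemClass.coe_one, toList_one] at this
    exact sig_facts.2.1 this

theorem tau_conj : τ * σ * τ⁻¹ = σ ^ 2 := by
  rw [mul_inv_eq_iff_eq_mul]
  refine toList_coe_injective ?_
  show toList ((τ * σ : M24) : Equiv.Perm GolayPt) = toList ((σ ^ 2 * τ : M24) : Equiv.Perm GolayPt)
  rw [Subgroup.coe_mul, Subgroup.coe_mul, toList_mul, toList_mul, toList_σ_sq, toList_σ, toList_τ]
  exact sig_facts.2.2.1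

theorem tau_not_comm : τ * σ ≠ σ * τ := fun e => sig_facts.2.2.2 (by
  have h := congrArg (fun x : M24 => toList (x : Equiv.Perm GolayPt)) e
  simpa [Subgroup.coe_mul, toList_mul, toList_σ, toList_τ] using h)

/-! ### The centraliser in the group of the code -/

/-- The normaliser of the cyclic group. -/
noncomputable def Nσ : Subgroup M24 := Subgroup.normalizer (Subgroup.zpowers σ : Set M24)

theorem conj_cases {g : M24} (hg : g ∈ Nσ) : g * σ = σ * g ∨ g * σ = σ ^ 2 * g := by
  have h : g * σ * g⁻¹ ∈ Subgroup.zpowers σ :=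
    (Subgroup.mem_normalizer_iff.1 hg σ).1 (Subgroup.mem_zpowers σ)
  have hf : IsOfFinOrder σ := isOfFinOrder_of_finite σ
  rw [hf.mem_zpowers_iff_mem_range_orderOf, orderOf_σ] at h
  simp only [Finset.mem_image, Finset.mem_range] at h
  obtain ⟨k, hk, e⟩ := h
  interval_cases k
  · exfalso
    have : σ = 1 := by
      rw [pow_zero, eq_comm, mul_inv_eq_one] at e
      exact mul_eq_left.1 e
    have h3 := orderOf_σ
    rw [this, orderOf_one] at h3
    omega
  · exact Or.inl (by rw [pow_one] at e; exact mul_inv_eq_iff_eq_mul.1 e.symm)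
  · exact Or.inr (mul_inv_eq_iff_eq_mul.1 e.symm)

theorem cent_le_Nσ : Subgroup.centralizer ({σ} : Set M24) ≤ Nσ := by
  intro g hg
  have h : g * σ * g⁻¹ = σ := mul_inv_eq_iff_eq_mul.2 (Subgroup.mem_centralizer_singleton_iff.1 hg)
  rw [Nσ]
  refine Subgroup.mem_normalizer_fintype fun x hx => ?_
  obtain ⟨k, rfl⟩ := Subgroup.mem_zpowers_iff.1 hx
  show g * σ ^ k * g⁻¹ ∈ Subgroup.zpowers σ
  rw [← conj_zpow, h]
  exact Subgroup.zpow_mem_zpowers σ k

theorem tau_mem : τ ∈ Nσ := by
  rw [Nσ]
  refine Subgroup.mem_normalizer_fintype fun x hx => ?_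
  obtain ⟨k, rfl⟩ := Subgroup.mem_zpowers_iff.1 hx
  show τ * σ ^ k * τ⁻¹ ∈ Subgroup.zpowers σ
  rw [← conj_zpow, tau_conj]
  exact zpow_mem (Subgroup.npow_mem_zpowers σ 2) k

/-- The positions fixed by the element. -/
def fixPos : List ℕ := (List.range 24).filter fun i => sig3.getD i 0 == i

theorem fixPos_ok : fixPos.length = 6 ∧ (∀ i ∈ q5, i ∈ fixPos) ∧ q5.Nodup ∧
    (fiveList.filter fun f => compL f sig3 == compL sig3 f ||
      compL f sig3 == compL (compL sig3 sig3) f).length ≤ 3 := by decide +kernel

theorem sigma_pt {i : ℕ} (hi : i < 24) : (σ : Equiv.Perm GolayPt) (pt i) = pt (sig3.getD i 0) := by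
  rw [← toList_σ, toList_getD _ hi, pt_idx]

theorem mem_fixPos {p : GolayPt} : idx p ∈ fixPos ↔ (σ : Equiv.Perm GolayPt) p = p := by
  have h := sigma_pt (idx_lt p)
  rw [pt_idx] at h
  simp only [fixPos, List.mem_filter, List.mem_range, idx_lt p, true_and, beq_iff_eq]
  constructor
  · intro e; rw [h, e, pt_idx]
  · intro e
    rw [← toList_σ, toList_getD_idx, e]

theorem fixed_moves {g : M24} (hg : g ∈ Nσ) {p : GolayPt} (hp : (σ : Equiv.Perm GolayPt) p = p) :
    (σ : Equiv.Perm GolayPt) ((g : Equiv.Perm GolayPt) p) = (g : Equiv.Perm GolayPt) p := by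
  rcases conj_cases hg with e | e
  · have := congrArg (fun x : M24 => (x : Equiv.Perm GolayPt) p) e
    simp only [Subgroup.coe_mul, Equiv.Perm.mul_apply, hp] at this
    exact this.symm
  · have := congrArg (fun x : M24 => (x : Equiv.Perm GolayPt) p) e
    simp only [pow_two, Subgroup.coe_mul, Equiv.Perm.mul_apply, hp] at this
    -- the square fixes the image, so the element does
    set u := (g : Equiv.Perm GolayPt) p with hu
    have h3 : (σ : Equiv.Perm GolayPt) ((σ : Equiv.Perm GolayPt) ((σ : Equiv.Perm GolayPt) u)) = u := by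
      have h := congrArg (fun x : M24 => (x : Equiv.Perm GolayPt) u)
        (show σ ^ 3 = 1 from orderOf_σ ▸ pow_orderOf_eq_one σ)
      simpa [pow_succ, Equiv.Perm.mul_apply] using h
    rw [← this] at h3
    exact h3

theorem card_Nσ : Nat.card Nσ ≤ 2160 := by
  classical
  let t : Fin 5 → GolayPt := fun j => pt (q5.getD j.val 0)
  have horb : Nat.card (MulAction.orbit Nσ t) ≤ 720 := by
    let Fx := {p : GolayPt // (σ : Equiv.Perm GolayPt) p = p}
    have hFx : Fintype.card Fx ≤ 6 := by
      rw [← fixPos_ok.1]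
      refine le_trans ?_ (List.toFinset_card_le fixPos)
      rw [← Fintype.card_coe]
      exact Fintype.card_le_of_injective (fun p : Fx => ⟨idx p.1, List.mem_toFinset.2 (mem_fixPos.2 p.2)⟩)
        fun a b e => Subtype.ext (idx_injective (congrArg Subtype.val e))
    have htfix : ∀ j, (σ : Equiv.Perm GolayPt) (t j) = t j := fun j => by
      have hj : j.val < q5.length := j.2
      have hq : q5.getD j.val 0 ∈ q5 := by
        rw [List.getD_eq_getElem _ _ hj]; exact List.getElem_mem hj
      have h24 : ∀ i ∈ q5, i < 24 := by decide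
      refine mem_fixPos.1 ?_
      rw [show idx (t j) = q5.getD j.val 0 from idx_pt _ (h24 _ hq)]
      exact fixPos_ok.2.1 _ hq
    have htinj : Function.Injective t := by
      intro a b e
      revert a b
      decide +kernel
    have hpt : ∀ (g : Nσ) (x : GolayPt), g • x = ((g : M24) : Equiv.Perm GolayPt) x := fun _ _ => rfl
    have key : ∀ u : MulAction.orbit Nσ t, ∃ f : Fin 5 ↪ Fx, (fun j => (f j).1) = u.1 := by
      rintro ⟨_, g, rfl⟩
      refine ⟨⟨fun j => ⟨((g : M24) : Equiv.Perm GolayPt) (t j), fixed_moves g.2 (htfix j)⟩,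
        fun a b e => htinj (((g : M24) : Equiv.Perm GolayPt).injective (congrArg Subtype.val e))⟩, ?_⟩
      funext j
      exact (hpt g (t j)).symm
    choose f hf using key
    calc Nat.card (MulAction.orbit Nσ t) ≤ Nat.card (Fin 5 ↪ Fx) :=
          Nat.card_le_card_of_injective f fun a b e => Subtype.ext (by rw [← hf a, ← hf b, e])
      _ ≤ Nat.card (Fin 5 ↪ Fin 6) := by
          rw [Nat.card_eq_fintype_card, Nat.card_eq_fintype_card, Fintype.card_embedding_eq,
            Fintype.card_embedding_eq, Fintype.card_fin, Fintype.card_fin]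
          exact Nat.descFactorial_le _ hFx
      _ = 720 := by
          rw [Nat.card_eq_fintype_card, Fintype.card_embedding_eq, Fintype.card_fin, Fintype.card_fin]
          decide
  have hstab : Nat.card (MulAction.stabilizer Nσ t) ≤ 3 := by
    let F := (fiveList.filter fun f => compL f sig3 == compL sig3 f ||
      compL f sig3 == compL (compL sig3 sig3) f).toFinset
    have hmem : ∀ c : MulAction.stabilizer Nσ t, toList ((c.1 : M24) : Equiv.Perm GolayPt) ∈ F := by
      rintro ⟨⟨c, hc⟩, hfix⟩
      simp only [F, List.mem_toFinset, List.mem_filter, Bool.or_eq_true, beq_iff_eq]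
      refine ⟨fixList_five c fun i hi => ?_, ?_⟩
      · obtain ⟨j, hj, rfl⟩ := List.getElem_of_mem hi
        have h24 : ∀ i ∈ q5, i < 24 := by decide
        have e : (c : Equiv.Perm GolayPt) (pt (q5.getD j 0)) = pt (q5.getD j 0) :=
          congrFun hfix ⟨j, hj⟩
        rw [List.getD_eq_getElem _ _ hj] at e
        rw [toList_getD _ (h24 _ (List.getElem_mem hj)), e, idx_pt _ (h24 _ (List.getElem_mem hj))]
      · rcases conj_cases hc with e | e
        · left
          rw [← toList_σ, ← toList_mul, ← toList_mul, ← Subgroup.coe_mul, ← Subgroup.coe_mul, e]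
        · right
          rw [← toList_σ_sq, ← toList_σ, ← toList_mul, ← toList_mul, ← Subgroup.coe_mul, ← Subgroup.coe_mul, e]
    calc Nat.card (MulAction.stabilizer Nσ t) ≤ Nat.card F :=
          Nat.card_le_card_of_injective (fun c => ⟨_, hmem c⟩)
            fun a b e => Subtype.ext (Subtype.ext (toList_coe_injective (congrArg Subtype.val e)))
      _ ≤ 3 := by rw [Nat.card_eq_finsetCard]; exact (List.toFinset_card_le _).trans fixPos_ok.2.2.2
  rw [Subgroup.card_eq_card_quotient_mul_card_subgroup (MulAction.stabilizer Nσ t),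
    ← Nat.card_congr (MulAction.orbitEquivQuotientStabilizer Nσ t)]
  exact Nat.mul_le_mul horb hstab

theorem card_centralizer_σ : Nat.card (Subgroup.centralizer ({σ} : Set M24)) ≤ 1080 := by
  set C := Subgroup.centralizer ({σ} : Set M24)
  have hd := Subgroup.card_dvd_of_le cent_le_Nσ
  have hne : Nat.card C ≠ Nat.card Nσ := fun e => by
    have hEq : C = Nσ := Subgroup.eq_of_le_of_card_ge cent_le_Nσ e.ge
    exact tau_not_comm (Subgroup.mem_centralizer_singleton_iff.1 (hEq.symm ▸ tau_mem : τ ∈ C))
  obtain ⟨k, hk⟩ := hd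
  change Nat.card Nσ = Nat.card C * k at hk
  have hN := card_Nσ
  have hNpos : 0 < Nat.card Nσ := Nat.card_pos
  rw [hk] at hN hNpos hne
  generalize Nat.card C = n at hN hNpos hne ⊢
  have hk2 : 2 ≤ k := by
    by_contra hlt
    interval_cases k <;> omega
  have : n * 2 ≤ n * k := Nat.mul_le_mul_left _ hk2
  omega

/-! ### The fixed classes and the centraliser in the automorphism group -/

/-- The automorphism with its fixed classes. -/
noncomputable def S : Sys where
  σ := σ
  L := sig3
  hL := toList_σ
  bas := bas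
  reps := reps
  ns := nsum
  p := 3
  hp := rfl
  hb := basis_ok.1
  hr := reps_ok
  hf := basis_ok.2.1
  hs := span_ok

theorem bas_length : bas.length = 12 := basis_ok.2.2

theorem S_N : S.N = 4096 := by
  show 2 ^ bas.length = 4096
  rw [bas_length]; norm_num

theorem fixWords_le : Sys.fixWords sig3 ≤ 64 := by decide +kernel

theorem card_cent : Nat.card S.cent ≤ 1701 * (1080 * 64) :=
  calc Nat.card S.cent ≤ S.frames.length * Nat.card ↥(S.cent ⊓ monoGroup) := S.card_cent_le
    _ ≤ 1701 * (1080 * 64) := Nat.mul_le_mul frames_le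
        (S.card_cent_mono_le.trans (Nat.mul_le_mul card_centralizer_σ fixWords_le))

end CfsgLib.FiThree
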