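/-
The action of the centraliser of the element of order 3 on the classes it fixes, with the images of
some elements as lists of masks.
-/
import Cfsg.Agent.FiThree.Cent

set_option autoImplicit false
set_option linter.constructorNameAsVariable false
set_option maxRecDepth 100000

namespace CfsgLib.FiThree

open Cfsg CfsgLib.Golay CfsgLib.Leech CfsgLib.LeechFix

attribute [local irreducible] shortVecs halfTable quarterTable codeFinset

/-- The image of a fixed class. -/
noncomputable def img (g : S.cent) (m : Fin S.N) : Fin S.N :=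
  ⟨(S.exists_image_mask g.2 m.val).choose, (S.exists_image_mask g.2 m.val).choose_spec.1⟩

theorem img_spec (g : S.cent) (m : Fin S.N) :
    cls (((g : Co0) • S.vec' m.val : leechLattice) : GolayPt → ℤ) = S.cl (img g m).val :=
  (S.exists_image_mask g.2 m.val).choose_spec.2

theorem img_eq {g : S.cent} {m : Fin S.N} {m' : ℕ} (hm' : m' < S.N)
    (h : cls (((g : Co0) • S.vec' m.val : leechLattice) : GolayPt → ℤ) = S.cl m') :
    (img g m).val = m' :=
  S.cl_inj (img g m).2 hm' ((img_spec g m).symm.trans h)

theorem img_one (m : Fin S.N) : img 1 m = m :=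
  Fin.ext (img_eq m.2 (by rw [OneMemClass.coe_one, one_smul, S.cls_vec']))

theorem img_mul (g h : S.cent) (m : Fin S.N) : img (g * h) m = img g (img h m) :=
  Fin.ext (img_eq (img g (img h m)).2 (by
    rw [Subgroup.coe_mul, mul_smul, ← img_spec g (img h m)]
    exact cls_smul (g : Co0) ((img_spec h m).trans (S.cls_vec' _).symm)))

/-- The action on the fixed classes. -/
noncomputable def act : S.cent →* Equiv.Perm (Fin S.N) where
  toFun g :=
    { toFun := img g
      invFun := img g⁻¹
      left_inv := fun m => by rw [← img_mul, inv_mul_cancel, img_one]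
      right_inv := fun m => by rw [← img_mul, mul_inv_cancel, img_one] }
  map_one' := Equiv.ext fun m => img_one m
  map_mul' g h := Equiv.ext fun m => img_mul g h m

theorem act_apply (g : S.cent) (m : Fin S.N) : act g m = img g m := rfl

theorem act_eq_one_iff (g : S.cent) :
    act g = 1 ↔ ∀ m < S.N, cls (((g : Co0) • S.vec' m : leechLattice) : GolayPt → ℤ) = S.cl m := by
  constructor
  · intro h m hm
    have h1 := img_spec g ⟨m, hm⟩
    rw [← act_apply, h] at h1
    exact h1
  · intro h
    exact Equiv.ext fun m => Fin.ext (img_eq m.2 (h m.val m.2))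

/-! ### Lists of images -/

/-- A permutation of the fixed classes sends the masks as the listed images prescribe. -/
def HasImg (p : Equiv.Perm (Fin S.N)) (Ms : List ℕ) : Prop :=
  ∀ m : Fin S.N, (p m).val = comb Ms m.val

theorem HasImg.unique {p p' : Equiv.Perm (Fin S.N)} {Ms : List ℕ} (h : HasImg p Ms) (h' : HasImg p' Ms) :
    p = p' := Equiv.ext fun m => Fin.ext ((h m).trans (h' m).symm)

theorem comb_zero : ∀ L : List ℕ, comb L 0 = 0
  | [] => rfl
  | r :: rs => by rw [comb, Nat.zero_div, comb_zero rs, if_neg (by decide), Nat.zero_xor]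

/-- Composition of lists of images. -/
def compMs (A B : List ℕ) : List ℕ := B.map (comb A)

theorem comb_compMs (A : List ℕ) : ∀ (B : List ℕ) (m : ℕ), comb (compMs A B) m = comb A (comb B m)
  | [], m => by simp [compMs, comb, comb_zero]
  | r :: rs, m => by
    have e : compMs A (r :: rs) = comb A r :: compMs A rs := rfl
    rw [e, comb, comb_compMs A rs, comb, comb_xor]
    split <;> simp [comb_zero]

/-- The images of the identity. -/
def idMs : List ℕ := (List.range 12).map (2 ^ ·)

theorem idMs_ok : (List.range 4096).all (fun m => comb idMs m == m) = true := by decide +kernel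

theorem comb_idMs (m : Fin 4096) : comb idMs m.val = m.val := by
  have h := List.all_eq_true.1 idMs_ok m.val (List.mem_range.2 m.2)
  rwa [beq_iff_eq] at h

theorem hasImg_one : HasImg 1 idMs := fun m =>
  (comb_idMs ⟨m.val, lt_of_lt_of_le m.2 S_N.le⟩).symm

theorem HasImg.mul {p q : Equiv.Perm (Fin S.N)} {A B : List ℕ} (hp : HasImg p A) (hq : HasImg q B) :
    HasImg (p * q) (compMs A B) := fun m => by
  rw [Equiv.Perm.mul_apply, hp, hq, comb_compMs]

/-- Two lists of images differ on a basis mask. -/
def diffMs (A B : List ℕ) : Bool := (List.range 12).any fun i => comb A (2 ^ i) != comb B (2 ^ i)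

theorem HasImg.ne {p q : Equiv.Perm (Fin S.N)} {A B : List ℕ} (hp : HasImg p A) (hq : HasImg q B)
    (h : diffMs A B = true) : p ≠ q := by
  rintro rfl
  simp only [diffMs, List.any_eq_true, List.mem_range, bne_iff_ne] at h
  obtain ⟨i, hi, hne⟩ := h
  have hlt : 2 ^ i < S.N := by
    rw [S_N]; exact Nat.pow_lt_pow_right (by norm_num) hi (a := 2) |>.trans_le (by norm_num)
  exact hne ((hp ⟨2 ^ i, hlt⟩).symm.trans (hq ⟨2 ^ i, hlt⟩))

/-- Certificate for an element of the centraliser with given images. -/
def elemB (w : List Op) (Ms : List ℕ) : Bool :=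
  w.all Op.ok && imgsOK bas w bas Ms &&
    genLists.all (fun l => appW (w ++ [.mono sig3 0]) l == appW ([.mono sig3 0] ++ w) l)

theorem elemB_spec {w : List Op} {Ms : List ℕ} (h : elemB w Ms = true) :
    ∃ g : S.cent, Real w (g : Co0) ∧ HasImg (act g) Ms := by
  simp only [elemB, Bool.and_eq_true, List.all_eq_true, beq_iff_eq] at h
  obtain ⟨⟨hw, him⟩, hc⟩ := h
  obtain ⟨g, hg⟩ := exists_real (w := w) (List.all_eq_true.2 hw)
  have hcent : g ∈ S.cent := S.mem_cent.2
    (eq_of_genLists (S.real_rho.append hg) (hg.append S.real_rho) (List.all_eq_true.2 fun l hl =>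
      beq_iff_eq.2 (hc l hl).symm))
  refine ⟨⟨g, hcent⟩, hg, fun m => ?_⟩
  obtain ⟨e1, hlt⟩ := imgs_spec S.hb hg S.hb him m.val
  exact img_eq hlt e1

end CfsgLib.FiThree
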