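/-
The form on the fixed classes of the element of order 3 is nondegenerate.
-/
import Cfsg.Agent.FiThree.Cent

set_option autoImplicit false
set_option maxRecDepth 100000

namespace CfsgLib.FiThree

open Cfsg CfsgLib.Golay CfsgLib.Leech CfsgLib.LeechFix

attribute [local irreducible] shortVecs halfTable quarterTable codeFinset

/-- The sum of the selected parities. -/
def selB : List Bool → ℕ → Bool
  | [], _ => false
  | c :: cs, m => ((m % 2 == 1) && c) ^^ selB cs (m / 2)

/-- A parity as a multiple of 8. -/
def eightB (c : Bool) : ℤ := if c then 8 else 0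

theorem dotInt_add_left (x y w : GolayPt → ℤ) : dotInt (x + y) w = dotInt x w + dotInt y w := by
  simp only [dotInt, Pi.add_apply, add_mul, Finset.sum_add_distrib]

theorem dot_combV {x : GolayPt → ℤ} : ∀ {L : List (List ℤ)} {cs : List Bool}, basOK L = true →
    List.Forall₂ (fun l c => (16 : ℤ) ∣ dotInt (ofL l) x - eightB c) L cs →
    ∀ m, (16 : ℤ) ∣ dotInt (ofL (combV L m)) x - eightB (selB cs m)
  | [], [], _, _, _ => by simp [combV, ofL_zeroL, selB, eightB, dotInt]
  | b :: bs, c :: cs, hL, h, m => by
    rcases h with _ | ⟨h1, h2⟩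
    have hL' := hL
    rw [basOK, List.all_cons, Bool.and_eq_true] at hL'
    have ih := dot_combV hL'.2 h2 (m / 2)
    rw [combV, selB]
    split <;> rename_i hm
    · rw [ofL_addL (length_of_memB hL'.1) (combV_spec hL'.2 _).1, dotInt_add_left]
      simp only [hm, beq_self_eq_true, Bool.true_and]
      revert h1 ih
      cases c <;> cases selB cs (m / 2) <;> simp [eightB] <;> omega
    · simp only [show (m % 2 == 1) = false from beq_false_of_ne hm, Bool.false_and, Bool.false_xor]
      exact ih

/-- The parities of the products with a basis vector. -/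
def gramRow (i : ℕ) : List Bool := bas.map fun b => dotL b (combV bas (2 ^ i)) % 16 == 8

theorem rows_ok : ((List.range 12).all fun i => bas.all fun b => dotL b (combV bas (2 ^ i)) % 16 == 0 ||
    dotL b (combV bas (2 ^ i)) % 16 == 8) = true := by decide +kernel

/-- The parities, computed. -/
def gramMat : List (List Bool) := (List.range 12).map gramRow

theorem gram_ok : (List.range 4096).all (fun m => decide (m = 0) || gramMat.any fun r => selB r m) = true := by
  decide +kernel

theorem gram {m : ℕ} (hm : m < S.N)
    (h : ∀ i < 12, (16 : ℤ) ∣ dotInt (S.vec' m : GolayPt → ℤ) (S.vec' (2 ^ i) : GolayPt → ℤ)) :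
    m = 0 := by
  have h1 := List.all_eq_true.1 gram_ok m (List.mem_range.2 (lt_of_lt_of_le hm S_N.le))
  simp only [Bool.or_eq_true, decide_eq_true_eq, List.any_eq_true] at h1
  rcases h1 with h1 | ⟨r, hr, hsel⟩
  · exact h1
  exfalso
  obtain ⟨i, hi, rfl⟩ := List.mem_map.1 hr
  rw [List.mem_range] at hi
  have hf : List.Forall₂ (fun l c => (16 : ℤ) ∣ dotInt (ofL l) (ofL (combV bas (2 ^ i))) - eightB c)
      bas (gramRow i) := by
    rw [gramRow, List.forall₂_map_right_iff, List.forall₂_same]
    intro b hb
    have h2 := List.all_eq_true.1 (List.all_eq_true.1 rows_ok i (List.mem_range.2 hi)) b hb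
    rw [dot_ofL (length_of_memB (List.all_eq_true.1 basis_ok.1 b hb)) (combV_spec basis_ok.1 _).1]
    simp only [Bool.or_eq_true, beq_iff_eq] at h2
    rcases h2 with e | e <;> simp [e, eightB] <;> omega
  have h3 := dot_combV basis_ok.1 hf m
  rw [hsel] at h3
  have h4 : (16 : ℤ) ∣ dotInt (ofL (combV bas m)) (ofL (combV bas (2 ^ i))) := h i hi
  simp only [eightB, if_true] at h3
  omega

end CfsgLib.FiThree
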