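/-
The group induced on the fixed classes by the centraliser: a scalar group of order 3, a subgroup of
index 2 centralising it with U₄(3) as quotient, and the rest inverting the scalars.
-/
import Cfsg.Agent.FiThree.Act
import Cfsg.Agent.U43Type.Present

set_option autoImplicit false
set_option linter.constructorNameAsVariable false
set_option linter.style.haveILetI false
set_option maxRecDepth 100000

namespace CfsgLib.FiThree

open Cfsg CfsgLib.Golay CfsgLib.Leech CfsgLib.LeechFix CfsgLib.Coset CfsgLib.U43Type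
open Cfsg.Agent.McLU43 (K9)

attribute [local irreducible] shortVecs halfTable quarterTable codeFinset

/-- The words of the four elements. -/
def gws : List (List Op) := [gw0, gw1, gw2, gw3]

theorem elem_ok0 : elemB gw0 gm0 = true := by decide +kernel

theorem elem_ok1 : elemB gw1 gm1 = true := by decide +kernel

theorem elem_ok2 : elemB gw2 gm2 = true := by decide +kernel

theorem elem_ok3 : elemB gw3 gm3 = true := by decide +kernel

theorem elem_exists (i : ℕ) : ∃ g : S.cent, HasImg (act g) (gms.getD i idMs) := by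
  rcases lt_or_ge i 4 with hi | hi
  · interval_cases i
    · obtain ⟨g, -, h⟩ := elemB_spec elem_ok0; exact ⟨g, h⟩
    · obtain ⟨g, -, h⟩ := elemB_spec elem_ok1; exact ⟨g, h⟩
    · obtain ⟨g, -, h⟩ := elemB_spec elem_ok2; exact ⟨g, h⟩
    · obtain ⟨g, -, h⟩ := elemB_spec elem_ok3; exact ⟨g, h⟩
  · exact ⟨1, by rw [map_one, List.getD_eq_default _ _ (by simpa [gms] using hi)]; exact hasImg_one⟩

/-- The image of a word in the four elements. -/
def evMs : List ℕ → List ℕ
  | [] => idMs
  | i :: w => compMs (gms.getD i idMs) (evMs w)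

/-- The induced group. -/
noncomputable abbrev A : Subgroup (Equiv.Perm (Fin S.N)) := act.range

theorem word_exists : ∀ w : List ℕ, ∃ p ∈ A, HasImg p (evMs w)
  | [] => ⟨1, one_mem _, hasImg_one⟩
  | i :: w => by
    obtain ⟨g, hg⟩ := elem_exists i
    obtain ⟨p, hp, hw⟩ := word_exists w
    exact ⟨act g * p, mul_mem ⟨g, rfl⟩ hp, hg.mul hw⟩

/-- A word in the involution and the element of order 7 as a word in the four elements. -/
def fullW (w : List ℕ) : List ℕ := w.flatMap fun i => if i = 0 then xW else yW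

theorem five_ok : evMs (fullW fiveA) = lxMs.getD 0 [] ∧ evMs (fullW fiveH) = lxMs.getD 2 [] ∧
    evMs (fullW fiveS) = lxMs.getD 4 [] ∧ evMs (fullW fiveI) = lxMs.getD 5 [] ∧
    evMs (fullW fiveR) = lxMs.getD 7 [] ∧ evMs omW = omMs := by decide +kernel

/-- The images of a word in the five elements. -/
def relMs : List ℕ → List ℕ
  | [] => idMs
  | l :: w => compMs (lxMs.getD l idMs) (relMs w)

/-- A list of images belongs to the scalars. -/
def inZ (M : List ℕ) : Bool := M == idMs || M == omMs || M == om2Ms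

theorem scalar_ok : compMs omMs omMs = om2Ms ∧ compMs om2Ms omMs = idMs ∧ compMs omMs om2Ms = idMs ∧
    diffMs omMs idMs = true := by decide +kernel

theorem lx_ok : compMs (lxMs.getD 1 []) (lxMs.getD 0 []) = idMs ∧
    compMs (lxMs.getD 3 []) (lxMs.getD 2 []) = idMs ∧ compMs (lxMs.getD 4 []) (lxMs.getD 4 []) = idMs ∧
    compMs (lxMs.getD 6 []) (lxMs.getD 5 []) = idMs ∧ compMs (lxMs.getD 8 []) (lxMs.getD 7 []) = idMs ∧
    ([0, 2, 4, 5, 7].all fun l => compMs (lxMs.getD l []) omMs == compMs omMs (lxMs.getD l [])) = true := by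
  decide +kernel

theorem rels_ok : (relsQ.all fun w => inZ (relMs w)) = true := by decide +kernel

theorem nontriv_ok : diffMs (lxMs.getD 0 []) idMs = true ∧ diffMs (lxMs.getD 0 []) omMs = true ∧
    diffMs (lxMs.getD 0 []) om2Ms = true ∧ compMs gm2 omMs = compMs om2Ms gm2 ∧
    diffMs (compMs gm2 omMs) (compMs omMs gm2) = true := by decide +kernel

theorem exists_scalar : ∃ w ∈ A, HasImg w omMs ∧ orderOf w = 3 ∧ HasImg (w ^ 2) om2Ms := by
  obtain ⟨w, hw, h⟩ := word_exists omW
  rw [five_ok.2.2.2.2.2] at h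
  have h2 : HasImg (w ^ 2) om2Ms := by
    rw [pow_two, ← scalar_ok.1]; exact h.mul h
  haveI : Fact (Nat.Prime 3) := ⟨Nat.prime_three⟩
  refine ⟨w, hw, h, orderOf_eq_prime ?_ (h.ne hasImg_one scalar_ok.2.2.2), h2⟩
  rw [pow_succ]
  exact (scalar_ok.2.1 ▸ h2.mul h : HasImg (w ^ 2 * w) idMs).unique hasImg_one

/-- The scalar of order 3. -/
noncomputable def ω : Equiv.Perm (Fin S.N) := exists_scalar.choose

theorem ω_mem : ω ∈ A := exists_scalar.choose_spec.1

theorem ω_img : HasImg ω omMs := exists_scalar.choose_spec.2.1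

theorem orderOf_ω : orderOf ω = 3 := exists_scalar.choose_spec.2.2.1

theorem ω_sq_img : HasImg (ω ^ 2) om2Ms := exists_scalar.choose_spec.2.2.2

/-- The centraliser of the scalar in the induced group. -/
noncomputable abbrev C0 : Subgroup (Equiv.Perm (Fin S.N)) :=
  A ⊓ Subgroup.centralizer ({ω} : Set (Equiv.Perm (Fin S.N)))

theorem five_exists (l : ℕ) (hl : l ∈ ([0, 2, 4, 5, 7] : List ℕ)) :
    ∃ p : C0, HasImg (p : Equiv.Perm (Fin S.N)) (lxMs.getD l []) := by
  have hc : compMs (lxMs.getD l []) omMs = compMs omMs (lxMs.getD l []) := by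
    have := List.all_eq_true.1 lx_ok.2.2.2.2.2 l hl
    rwa [beq_iff_eq] at this
  have hw : ∃ w : List ℕ, evMs w = lxMs.getD l [] := by
    simp only [List.mem_cons, List.not_mem_nil, or_false] at hl
    obtain ⟨h0, h2, h4, h5, h7, -⟩ := five_ok
    rcases hl with rfl | rfl | rfl | rfl | rfl
    exacts [⟨_, h0⟩, ⟨_, h2⟩, ⟨_, h4⟩, ⟨_, h5⟩, ⟨_, h7⟩]
  obtain ⟨w, hw⟩ := hw
  obtain ⟨p, hp, h⟩ := word_exists w
  rw [hw] at h
  exact ⟨⟨p, hp, Subgroup.mem_centralizer_singleton_iff.2
    ((h.mul ω_img).unique (hc ▸ ω_img.mul h))⟩, h⟩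

theorem negAut_comm (g : Co0) : g * negAut = negAut * g :=
  Subgroup.mem_center_iff.1 negAut_central g

theorem rho_cent : S.rho ∈ S.cent := S.mem_cent.2 rfl

theorem orderOf_rho : orderOf S.rho = 3 := by
  have h : ∀ x : M24, permHom x = 1 → x = 1 := fun x e => by
    rw [← map_one permHom, permHom_eq_monoAut, permHom_eq_monoAut] at e
    exact congrArg Prod.snd (monoAut_injective e)
  haveI : Fact (Nat.Prime 3) := ⟨Nat.prime_three⟩
  show orderOf (permHom σ) = 3
  refine orderOf_eq_prime ?_ fun e => ?_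
  · rw [← map_pow, ← orderOf_σ, pow_orderOf_eq_one, map_one]
  · have := orderOf_σ
    rw [h _ e, orderOf_one] at this
    omega

theorem orderOf_zeta : orderOf (negAut * S.rho) = 6 := by
  haveI : Fact (Nat.Prime 2) := ⟨Nat.prime_two⟩
  have hn : orderOf negAut = 2 := by
    refine orderOf_eq_prime (by rw [pow_two, negAut_sq]) fun e => ?_
    have h := congrArg (fun g : Co0 => ((g • eightAt none : leechLattice) : GolayPt → ℤ) none) e
    simp only [negAut_smul, one_smul, AddSubgroup.coe_neg, Pi.neg_apply, eightAt_apply, if_true] at h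
    omega
  rw [(show Commute negAut S.rho from (negAut_comm S.rho).symm).orderOf_mul_eq_mul_orderOf_of_coprime
    (by rw [hn, orderOf_rho]; rfl), hn, orderOf_rho]

/-- The element of order 6 acting trivially. -/
theorem zeta_cent : negAut * S.rho ∈ S.cent := mul_mem (S.mem_cent.2 (negAut_comm _).symm) rho_cent

theorem act_zeta : act ⟨negAut * S.rho, zeta_cent⟩ = 1 := (act_eq_one_iff _).2 fun m _ => by
  show cls (((negAut * S.rho) • S.vec' m : leechLattice) : GolayPt → ℤ) = _
  rw [mul_smul, negAut_smul, AddSubgroup.coe_neg, cls_neg (S.rho • S.vec' m : leechLattice).2, S.rho_fix]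

theorem mk_mem_of_act (hker : Nat.card act.ker ≤ 6) {x : S.cent} (hx : act x = 1) :
    (QuotientGroup.mk (x : Co0) : Spor.Co1) ∈ Subgroup.zpowers (QuotientGroup.mk S.rho : Spor.Co1) := by
  let ζ : S.cent := ⟨negAut * S.rho, zeta_cent⟩
  have hle : Subgroup.zpowers ζ ≤ act.ker := Subgroup.zpowers_le.2 act_zeta
  have ho : orderOf ζ = 6 := by rw [← Subgroup.orderOf_coe]; exact orderOf_zeta
  have heq : Subgroup.zpowers ζ = act.ker :=
    Subgroup.eq_of_le_of_card_ge hle (by rw [Nat.card_zpowers, ho]; exact hker)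
  have hm : x ∈ Subgroup.zpowers ζ := heq.symm ▸ hx
  obtain ⟨k, rfl⟩ := Subgroup.mem_zpowers_iff.1 hm
  have e : (QuotientGroup.mk (negAut : Co0) : Spor.Co1) = 1 := (QuotientGroup.eq_one_iff _).2 negAut_central
  rw [Subgroup.coe_zpow, QuotientGroup.mk_zpow]
  show (QuotientGroup.mk (negAut * S.rho) : Spor.Co1) ^ k ∈ _
  rw [QuotientGroup.mk_mul, e, one_mul]
  exact Subgroup.zpow_mem_zpowers _ _

/-- The structure of the induced group. -/
theorem structure_A : ∃ M : Subgroup A, ∃ W : Subgroup A, ∃ _ : W.Normal, M.Normal ∧ W ≤ M ∧ Nat.card W = 3 ∧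
    M.index = 2 ∧ Nonempty (M ⧸ W.subgroupOf M ≃* Cfsg.PSU 4 K9 3) ∧
    (∀ x : A, x ∉ M → ∀ u ∈ W, x * u * x⁻¹ = u⁻¹) ∧ (∀ x : S.cent, act x = 1 →
      (QuotientGroup.mk (x : Co0) : Spor.Co1) ∈ Subgroup.zpowers (QuotientGroup.mk S.rho : Spor.Co1)) := by
  classical
  let wC : C0 := ⟨ω, ω_mem, Subgroup.mem_centralizer_singleton_iff.2 rfl⟩
  let Z : Subgroup C0 := Subgroup.zpowers wC
  have hZc : ∀ u ∈ Z, ∀ x : C0, x * u = u * x := by
    intro u hu x
    obtain ⟨k, rfl⟩ := Subgroup.mem_zpowers_iff.1 hu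
    exact ((show Commute x wC from Subtype.ext
      (Subgroup.mem_centralizer_singleton_iff.1 x.2.2)).zpow_right k).eq
  haveI hZn : Z.Normal := ⟨fun u hu x => by rw [hZc u hu x, mul_inv_cancel_right]; exact hu⟩
  have hwo : orderOf wC = 3 := by rw [← Subgroup.orderOf_coe]; exact orderOf_ω
  have hZcard : Nat.card Z = 3 := by rw [Nat.card_zpowers, hwo]
  let q : C0 →* C0 ⧸ Z := QuotientGroup.mk' Z
  obtain ⟨a, ha⟩ := five_exists 0 (by simp)
  obtain ⟨h, hh⟩ := five_exists 2 (by simp)
  obtain ⟨s, hs⟩ := five_exists 4 (by simp)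
  obtain ⟨i, hi⟩ := five_exists 5 (by simp)
  obtain ⟨r, hr⟩ := five_exists 7 (by simp)
  obtain ⟨l1, l3, l4, l6, l8, -⟩ := lx_ok
  have hinv : ∀ {p : C0} {X Y : List ℕ}, HasImg (p : Equiv.Perm (Fin S.N)) X → compMs Y X = idMs →
      HasImg ((p⁻¹ : C0) : Equiv.Perm (Fin S.N)) Y := by
    intro p X Y hp hYX m
    set u := ((p⁻¹ : C0) : Equiv.Perm (Fin S.N)) m with hu
    have h2 : (p : Equiv.Perm (Fin S.N)) u = m := by
      rw [hu, ← Equiv.Perm.mul_apply, ← Subgroup.coe_mul, mul_inv_cancel]; rfl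
    have h1 := hp u
    rw [h2] at h1
    rw [h1, ← comb_compMs, hYX]
    exact (comb_idMs ⟨u.val, lt_of_lt_of_le u.2 S_N.le⟩).symm
  have hfl : ∀ l, HasImg ((fl (LX a h s i r) l : C0) : Equiv.Perm (Fin S.N)) (lxMs.getD l idMs) := by
    intro l
    rcases lt_or_ge l 9 with hl | hl
    · have e : lxMs.getD l idMs = lxMs.getD l [] := by
        rw [List.getD_eq_getElem _ _ (by simpa [lxMs] using hl), List.getD_eq_getElem _ _ (by simpa [lxMs] using hl)]
      rw [e]
      interval_cases l
      exacts [ha, hinv ha l1, hh, hinv hh l3, hs, hi, hinv hi l6, hr, hinv hr l8]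
    · rw [fl_of_le _ (by simpa [LX] using hl), List.getD_eq_default _ _ (by simpa [lxMs] using hl)]
      exact hasImg_one
  have hev : ∀ w, HasImg ((ev (LX a h s i r) w : C0) : Equiv.Perm (Fin S.N)) (relMs w) := by
    intro w
    induction w with
    | nil => rw [ev_nil]; exact hasImg_one
    | cons l w ih => rw [ev_cons, Subgroup.coe_mul]; exact (hfl l).mul ih
  have hrel : ∀ w ∈ relsQ, ev (LX (q a) (q h) (q s) (q i) (q r)) w = 1 := by
    intro w hw
    rw [← map_LX, ← ev_hom]
    refine (QuotientGroup.eq_one_iff _).2 ?_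
    have hz := List.all_eq_true.1 rels_ok w hw
    simp only [inZ, Bool.or_eq_true, beq_iff_eq] at hz
    have hv := hev w
    rcases hz with (e | e) | e <;> rw [e] at hv
    · exact Subgroup.mem_zpowers_iff.2 ⟨0, Subtype.ext (by rw [zpow_zero]; exact (hv.unique hasImg_one).symm)⟩
    · exact Subgroup.mem_zpowers_iff.2 ⟨1, Subtype.ext (by rw [zpow_one]; exact (hv.unique ω_img).symm)⟩
    · exact Subgroup.mem_zpowers_iff.2 ⟨2, Subtype.ext (by
        rw [zpow_ofNat, SubmonoidClass.coe_pow]; exact (hv.unique ω_sq_img).symm)⟩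
  have hne : q a ≠ 1 := by
    intro e
    have hm : a ∈ Z := (QuotientGroup.eq_one_iff a).1 e
    have hf : IsOfFinOrder wC := isOfFinOrder_of_finite wC
    rw [show Z = Subgroup.zpowers wC from rfl, hf.mem_zpowers_iff_mem_range_orderOf, hwo] at hm
    simp only [Finset.mem_image, Finset.mem_range] at hm
    obtain ⟨k, hk, rfl⟩ := hm
    interval_cases k
    · exact ha.ne hasImg_one nontriv_ok.1 (by rw [pow_zero]; rfl)
    · exact ha.ne ω_img nontriv_ok.2.1 (by rw [pow_one])
    · exact ha.ne ω_sq_img nontriv_ok.2.2.1 (by rw [SubmonoidClass.coe_pow])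
  obtain ⟨iso⟩ := iso_of_rels (q a) (q h) (q s) (q i) (q r) hrel hne
  set X := Subgroup.closure {x | x ∈ LX (q a) (q h) (q s) (q i) (q r)}
  set M1 : Subgroup C0 := X.comap q with hM1
  have hZM : Z ≤ M1 := fun u hu => by
    show (QuotientGroup.mk u : C0 ⧸ Z) ∈ X
    rw [(QuotientGroup.eq_one_iff u).2 hu]; exact one_mem _
  let inc : C0 →* A := Subgroup.inclusion inf_le_left
  have hincinj : Function.Injective inc := Subgroup.inclusion_injective _
  set M : Subgroup A := M1.map inc with hM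
  set W : Subgroup A := Z.map inc with hW
  let g : M1 →* X := (q.comp M1.subtype).codRestrict X fun x => x.2
  have hgs : Function.Surjective g := by
    rintro ⟨y, hy⟩
    obtain ⟨x, rfl⟩ := QuotientGroup.mk'_surjective Z y
    exact ⟨⟨x, hy⟩, rfl⟩
  have hgk : g.ker = Z.subgroupOf M1 := by
    ext x
    rw [MonoidHom.mem_ker, Subgroup.mem_subgroupOf]
    constructor
    · intro e; exact (QuotientGroup.eq_one_iff _).1 (congrArg Subtype.val e)
    · intro e; exact Subtype.ext ((QuotientGroup.eq_one_iff _).2 e)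
  have hcardX : Nat.card X = 3265920 :=
    (Nat.card_congr iso.toEquiv).trans (CfsgLib.MinIdxPSU.card_psu43 CfsgLib.J2.Perm.hF)
  have hcardM : Nat.card M = 3265920 * 3 := by
    rw [hM, Subgroup.card_map_of_injective hincinj,
      Subgroup.card_eq_card_quotient_mul_card_subgroup g.ker,
      Nat.card_congr (QuotientGroup.quotientKerEquivOfSurjective g hgs).toEquiv, hcardX, hgk,
      Nat.card_congr (Subgroup.subgroupOfEquivOfLe hZM).toEquiv, hZcard]
  -- the inverting element
  obtain ⟨t, ht⟩ := elem_exists 2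
  have ht' : HasImg (act t) gm2 := ht
  have htω : act t * ω = ω ^ 2 * act t :=
    (ht'.mul ω_img).unique (nontriv_ok.2.2.2.1 ▸ ω_sq_img.mul ht')
  have htne : act t * ω ≠ ω * act t := (ht'.mul ω_img).ne (ω_img.mul ht') nontriv_ok.2.2.2.2
  let tA : A := ⟨act t, t, rfl⟩
  have htM : tA ∉ M := by
    rintro ⟨x, -, hx⟩
    have e : (x : Equiv.Perm (Fin S.N)) = act t := congrArg Subtype.val hx
    exact htne (e ▸ Subgroup.mem_centralizer_singleton_iff.1 x.2.2)
  -- the count
  have hker6 : 6 ≤ Nat.card act.ker := by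
    have hζ : (⟨negAut * S.rho, zeta_cent⟩ : S.cent) ∈ act.ker := by
      rw [MonoidHom.mem_ker]
      exact act_zeta
    have h1 := Subgroup.orderOf_dvd_natCard act.ker hζ
    rw [← Subgroup.orderOf_coe, orderOf_zeta] at h1
    exact Nat.le_of_dvd Nat.card_pos h1
  have hcent : Nat.card S.cent = Nat.card A * Nat.card act.ker := by
    rw [Subgroup.card_eq_card_quotient_mul_card_subgroup act.ker,
      Nat.card_congr (QuotientGroup.quotientKerEquivRange act).toEquiv]
  have hMidx : M.index ≠ 1 := fun e => htM (Subgroup.index_eq_one.1 e ▸ Subgroup.mem_top _)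
  have hA : Nat.card M * M.index = Nat.card A := M.card_mul_index
  have hbound := card_cent
  have hidx : M.index = 2 ∧ Nat.card act.ker = 6 := by
    have hi0 : M.index ≠ 0 := Subgroup.index_ne_zero_of_finite
    rw [hcent, ← hA, hcardM] at hbound
    generalize M.index = d at *
    generalize Nat.card act.ker = k at *
    have hd : 2 ≤ d := by omega
    constructor
    · by_contra hne'
      have : 3 * 6 ≤ d * k := Nat.mul_le_mul (by omega) hker6
      nlinarith
    · by_contra hne'
      have : 2 * 7 ≤ d * k := Nat.mul_le_mul hd (by omega)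
      nlinarith
  have hMn : M.Normal := Subgroup.normal_of_index_eq_two hidx.1
  have hWM : W ≤ M := Subgroup.map_mono hZM
  have hWc : ∀ x : A, ∀ u ∈ W, x ∈ M → x * u * x⁻¹ = u := by
    rintro x u ⟨u', hu', rfl⟩ ⟨x', -, rfl⟩
    rw [← map_inv, ← map_mul, ← map_mul, hZc u' hu' x', mul_inv_cancel_right]
  have hWinv : ∀ x : A, x ∉ M → ∀ u ∈ W, x * u * x⁻¹ = u⁻¹ := by
    intro x hx u hu
    have h1 : tA⁻¹ * x ∈ M := by
      rcases (Subgroup.mul_mem_iff_of_index_two hidx.1 (a := tA⁻¹) (b := x)) with h'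
      refine h'.2 ?_
      constructor
      · intro h; exact absurd ((inv_mem_iff).1 h) htM
      · intro h; exact absurd h hx
    have h2 := hWc _ u hu h1
    have h3 : ∀ v ∈ W, tA * v * tA⁻¹ = v⁻¹ := by
      rintro _ ⟨v, hv, rfl⟩
      obtain ⟨k, rfl⟩ := Subgroup.mem_zpowers_iff.1 hv
      refine Subtype.ext ?_
      show act t * ((wC ^ k : C0) : Equiv.Perm (Fin S.N)) * (act t)⁻¹ =
        (((wC ^ k : C0) : Equiv.Perm (Fin S.N)))⁻¹
      rw [SubgroupClass.coe_zpow, ← conj_zpow]
      show (act t * ω * (act t)⁻¹) ^ k = (ω ^ k)⁻¹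
      rw [htω, mul_inv_cancel_right, ← inv_zpow]
      congr 1
      refine eq_inv_of_mul_eq_one_left ?_
      rw [← pow_succ, show 2 + 1 = orderOf ω from orderOf_ω.symm, pow_orderOf_eq_one]
    calc x * u * x⁻¹ = tA * (tA⁻¹ * x * u * (tA⁻¹ * x)⁻¹) * tA⁻¹ := by group
      _ = u⁻¹ := by rw [h2, h3 u hu]
  have hWn : W.Normal := ⟨fun u hu x => by
    by_cases hx : x ∈ M
    · rw [hWc x u hu hx]; exact hu
    · rw [hWinv x hx u hu]; exact inv_mem hu⟩
  refine ⟨M, W, hWn, hMn, hWM, by rw [hW, Subgroup.card_map_of_injective hincinj, hZcard], hidx.1, ?_, hWinv, ?_⟩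
  · let e1 : M1 ≃* M := Subgroup.equivMapOfInjective M1 inc hincinj
    refine ⟨((QuotientGroup.congr (Z.subgroupOf M1) (W.subgroupOf M) e1 ?_).symm).trans
      (((QuotientGroup.quotientMulEquivOfEq hgk.symm).trans
        (QuotientGroup.quotientKerEquivOfSurjective g hgs)).trans iso)⟩
    ext y
    constructor
    · rintro ⟨x, hx, rfl⟩
      exact ⟨_, hx, rfl⟩
    · intro hy
      obtain ⟨x, hx, e⟩ := hy
      exact ⟨⟨x, hZM hx⟩, hx, Subtype.ext e⟩
  · intro x hx
    exact mk_mem_of_act (le_of_eq hidx.2) hx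

end CfsgLib.FiThree
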