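/-
Words for the elements of a Sylow 3-subgroup of the group of the code in two generators.
-/
import Cfsg.Agent.FiThree.Data

set_option autoImplicit false

namespace CfsgLib.FiThree

/-- The words. -/
def sylWords : List (List ℕ) :=
  [[], [0], [1], [0, 0], [1, 0], [0, 1],
    [1, 1], [1, 0, 0], [0, 1, 0], [1, 1, 0], [0, 0, 1], [1, 0, 1],
    [0, 1, 1], [0, 1, 0, 0], [1, 1, 0, 0], [0, 0, 1, 0], [1, 0, 1, 0], [0, 1, 1, 0],
    [1, 1, 0, 1], [1, 0, 1, 1], [0, 0, 1, 0, 0], [1, 0, 1, 0, 0], [0, 1, 1, 0, 0], [1, 1, 0, 1, 0],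
    [1, 0, 1, 1, 0], [1, 1, 0, 1, 0, 0], [1, 0, 1, 1, 0, 0]]

end CfsgLib.FiThree
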