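/-
A Sylow 3-subgroup of the group of the code with the chosen element generating its centre.
-/
import Cfsg.Agent.FiThree.Cent
import Cfsg.Agent.FiThree.SylData

set_option autoImplicit false
set_option linter.constructorNameAsVariable false
set_option maxRecDepth 100000

namespace CfsgLib.FiThree

open Cfsg CfsgLib.Golay CfsgLib.Leech CfsgLib.Golay.Cert

attribute [local irreducible] shortVecs halfTable quarterTable codeFinset

/-- The first generator. -/
noncomputable def pA : M24 := (genOK_spec perms_ok.2.2.1).choose

theorem toList_pA : toList (pA : Equiv.Perm GolayPt) = sylA := (genOK_spec perms_ok.2.2.1).choose_spec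

/-- The second generator. -/
noncomputable def pB : M24 := (genOK_spec perms_ok.2.2.2).choose

theorem toList_pB : toList (pB : Equiv.Perm GolayPt) = sylB := (genOK_spec perms_ok.2.2.2).choose_spec

/-- The Sylow subgroup. -/
noncomputable def P0 : Subgroup M24 := Subgroup.closure {pA, pB}

/-- The list of a word. -/
def wordL : List ℕ → List ℕ
  | [] => List.range 24
  | i :: w => compL (if i = 0 then sylA else sylB) (wordL w)

/-- The lists of the elements. -/
def elsL : List (List ℕ) := sylWords.map wordL

theorem els_ok : elsL.length = 27 ∧ elsL.Nodup ∧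
    (elsL.all fun e => elsL.contains (compL sylA e) && elsL.contains (compL sylB e)) = true ∧
    (elsL.all fun e => !(compL sylA e == compL e sylA && compL sylB e == compL e sylB) ||
      (e == List.range 24 || e == sig3 || e == compL sig3 sig3)) = true := by decide +kernel

theorem mem_els {x : M24} (hx : x ∈ P0) : toList (x : Equiv.Perm GolayPt) ∈ elsL := by
  have h1 : toList ((1 : M24) : Equiv.Perm GolayPt) ∈ elsL := by
    rw [OneMemClass.coe_one, toList_one]
    exact List.mem_map.2 ⟨[], by decide, rfl⟩
  have hstep : ∀ p ∈ ({pA, pB} : Set M24), ∀ y : M24, toList (y : Equiv.Perm GolayPt) ∈ elsL →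
      toList ((p * y : M24) : Equiv.Perm GolayPt) ∈ elsL := by
    intro p hp y hy
    have h := List.all_eq_true.1 els_ok.2.2.1 _ hy
    simp only [Bool.and_eq_true, List.contains_iff_mem] at h
    rw [Subgroup.coe_mul, toList_mul]
    rcases hp with rfl | hp
    · rw [toList_pA]; exact h.1
    · rw [Set.mem_singleton_iff.1 hp, toList_pB]; exact h.2
  have hm : x ∈ Submonoid.closure ({pA, pB} : Set M24) := by
    rw [← Subgroup.closure_toSubmonoid_of_finite]; exact hx
  induction hm using Submonoid.closure_induction_left with
  | one => exact h1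
  | mul_left p hp y hy ih =>
    refine hstep p hp y (ih ?_)
    rw [P0, ← Subgroup.mem_toSubmonoid, Subgroup.closure_toSubmonoid_of_finite]
    exact hy

theorem exists_word : ∀ w : List ℕ, ∃ x ∈ P0, toList ((x : M24) : Equiv.Perm GolayPt) = wordL w
  | [] => ⟨1, one_mem _, by rw [OneMemClass.coe_one, toList_one]; rfl⟩
  | i :: w => by
    obtain ⟨x, hx, e⟩ := exists_word w
    rw [wordL]
    by_cases hi : i = 0
    · exact ⟨pA * x, mul_mem (Subgroup.subset_closure (Or.inl rfl)) hx,
        by rw [Subgroup.coe_mul, toList_mul, toList_pA, e, if_pos hi]⟩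
    · exact ⟨pB * x, mul_mem (Subgroup.subset_closure (Or.inr rfl)) hx,
        by rw [Subgroup.coe_mul, toList_mul, toList_pB, e, if_neg hi]⟩

theorem card_P0 : Nat.card P0 = 27 := by
  classical
  refine le_antisymm ?_ ?_
  · calc Nat.card P0 ≤ Nat.card (elsL.toFinset) :=
          Nat.card_le_card_of_injective (fun x => ⟨_, List.mem_toFinset.2 (mem_els x.2)⟩)
            fun a b e => Subtype.ext (toList_coe_injective (congrArg Subtype.val e))
      _ ≤ 27 := by
          rw [Nat.card_eq_finsetCard]
          exact (List.toFinset_card_le _).trans els_ok.1.le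
  · have key : ∀ e : elsL.toFinset, ∃ x : P0, toList ((x : M24) : Equiv.Perm GolayPt) = e.1 := fun e => by
      obtain ⟨w, -, hw⟩ := List.mem_map.1 (List.mem_toFinset.1 e.2)
      obtain ⟨x, hx, he⟩ := exists_word w
      exact ⟨⟨x, hx⟩, he.trans hw⟩
    choose f hf using key
    calc (27 : ℕ) = Nat.card (elsL.toFinset) := by
          rw [Nat.card_eq_finsetCard, List.toFinset_card_of_nodup els_ok.2.1, els_ok.1]
      _ ≤ Nat.card P0 :=
          Nat.card_le_card_of_injective f fun a b e => Subtype.ext (by rw [← hf a, ← hf b, e])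

theorem central_P0 {x : M24} (hx : x ∈ P0) (hc : ∀ y ∈ P0, x * y = y * x) :
    x = 1 ∨ x = σ ∨ x = σ ^ 2 := by
  have h := List.all_eq_true.1 els_ok.2.2.2 _ (mem_els hx)
  have eA : compL sylA (toList (x : Equiv.Perm GolayPt)) = compL (toList (x : Equiv.Perm GolayPt)) sylA := by
    rw [← toList_pA, ← toList_mul, ← toList_mul, ← Subgroup.coe_mul, ← Subgroup.coe_mul,
      hc pA (Subgroup.subset_closure (Or.inl rfl))]
  have eB : compL sylB (toList (x : Equiv.Perm GolayPt)) = compL (toList (x : Equiv.Perm GolayPt)) sylB := by
    rw [← toList_pB, ← toList_mul, ← toList_mul, ← Subgroup.coe_mul, ← Subgroup.coe_mul,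
      hc pB (Subgroup.subset_closure (Or.inr rfl))]
  simp only [eA, eB, beq_self_eq_true, Bool.and_self, Bool.not_true, Bool.false_or, Bool.or_eq_true,
    beq_iff_eq] at h
  rcases h with (h | h) | h
  · exact Or.inl (toList_coe_injective (h.trans (by simp [toList_one])))
  · exact Or.inr (Or.inl (toList_coe_injective (h.trans toList_σ.symm)))
  · exact Or.inr (Or.inr (toList_coe_injective (h.trans toList_σ_sq.symm)))

end CfsgLib.FiThree
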