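/-
A 3-central subgroup of order 3 of the joint centraliser of the central involution and a conjugate
of it: in a suitable frame it is generated by an element acting on the lattice as the chosen one.
-/
import Cfsg.Agent.FiThree.Syl
import Cfsg.Agent.Monster.PrimeSection

set_option autoImplicit false
set_option linter.style.haveILetI false
set_option linter.constructorNameAsVariable false

namespace CfsgLib.FiThree

open Cfsg CfsgLib.Golay CfsgLib.Leech CfsgLib.Monster CfsgLib.LeechFix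

attribute [local irreducible] shortVecs halfTable quarterTable codeFinset

/-- The quotient map onto the first Conway group. -/
noncomputable abbrev pr : Co0 →* Spor.Co1 := QuotientGroup.mk' (Subgroup.center Co0)

/-- The image of the group of the code in the first Conway group. -/
noncomputable def codeHom : M24 →* Spor.Co1 := pr.comp permHom

theorem codeHom_injective : Function.Injective codeHom := by
  rw [injective_iff_map_eq_one]
  intro x hx
  have h1 : permHom x ∈ (Subgroup.center Co0 : Set Co0) := (QuotientGroup.eq_one_iff _).1 hx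
  rw [center_eq] at h1
  rcases h1 with e | e
  · have e' := e.trans (map_one permHom).symm
    rw [permHom_eq_monoAut, permHom_eq_monoAut] at e'
    exact congrArg Prod.snd (monoAut_injective e')
  · exfalso
    have h := congrArg (fun g : Co0 => ((g • eightAt none : leechLattice) : GolayPt → ℤ) ((x : Equiv.Perm GolayPt) none))
      (Set.mem_singleton_iff.1 e)
    rw [permHom_eightAt, negAut_smul, AddSubgroup.coe_neg, Pi.neg_apply, eightAt_apply, eightAt_apply, if_pos rfl] at h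
    split at h <;> omega

/-- The image of the monomial group. -/
noncomputable def Ib : Subgroup Spor.Co1 := monoGroup.map pr

theorem card_Ib_not : ¬ 3 ^ 4 ∣ Nat.card Ib := by
  intro h
  have := h.trans (Subgroup.card_map_dvd monoGroup pr)
  rw [card_monoGroup] at this
  norm_num at this

theorem codeHom_le : P0.map codeHom ≤ Ib := by
  rintro _ ⟨x, -, rfl⟩
  exact ⟨_, permHom_mem x, rfl⟩

theorem card_code_syl : Nat.card (P0.map codeHom) = 27 := by
  rw [Subgroup.card_map_of_injective codeHom_injective, card_P0]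

/-- A Sylow subgroup of the image of the monomial group. -/
theorem exists_conj_syl {P : Subgroup Spor.Co1} (hP : P ≤ Ib) (hc : Nat.card P = 27) :
    ∃ m ∈ monoGroup, P.map (MulAut.conj (pr m)).toMonoidHom = P0.map codeHom := by
  haveI : Fact (Nat.Prime 3) := ⟨Nat.prime_three⟩
  have hfac : (Nat.card Ib).factorization 3 = 3 := by
    have h27 : 3 ^ 3 ∣ Nat.card Ib := by
      have h : Nat.card P ∣ Nat.card Ib := Subgroup.card_dvd_of_le hP
      rw [hc] at h; exact h
    have e1 := (Nat.Prime.pow_dvd_iff_le_factorization Nat.prime_three Nat.card_pos.ne').1 h27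
    have e2 : ¬ 4 ≤ (Nat.card Ib).factorization 3 := fun h =>
      card_Ib_not ((Nat.Prime.pow_dvd_iff_le_factorization Nat.prime_three Nat.card_pos.ne').2 h)
    omega
  have hcard : ∀ {K : Subgroup Spor.Co1}, K ≤ Ib → Nat.card K = 27 →
      Nat.card (K.subgroupOf Ib) = 3 ^ (Nat.card Ib).factorization 3 := fun hK h => by
    rw [hfac, Nat.card_congr (Subgroup.subgroupOfEquivOfLe hK).toEquiv, h]; rfl
  let S1 : Sylow 3 Ib := Sylow.ofCard (P.subgroupOf Ib) (hcard hP hc)
  let S2 : Sylow 3 Ib := Sylow.ofCard ((P0.map codeHom).subgroupOf Ib) (hcard codeHom_le card_code_syl)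
  obtain ⟨⟨k, m, hm, rfl⟩, hk⟩ := MulAction.exists_smul_eq Ib S1 S2
  refine ⟨m, hm, Subgroup.eq_of_le_of_card_ge ?_ ?_⟩
  · rintro _ ⟨x, hx, rfl⟩
    have h1 : (⟨pr m, m, hm, rfl⟩ : Ib) * ⟨x, hP hx⟩ * (⟨pr m, m, hm, rfl⟩ : Ib)⁻¹ ∈
        (P0.map codeHom).subgroupOf Ib := by
      have h2 : (⟨pr m, m, hm, rfl⟩ : Ib) * ⟨x, hP hx⟩ * (⟨pr m, m, hm, rfl⟩ : Ib)⁻¹ ∈
          ((⟨pr m, m, hm, rfl⟩ : Ib) • S1 : Sylow 3 Ib) := by
        show _ ∈ (((⟨pr m, m, hm, rfl⟩ : Ib) • S1 : Sylow 3 Ib) : Subgroup Ib)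
        rw [Sylow.coe_subgroup_smul]
        exact ⟨⟨x, hP hx⟩, hx, rfl⟩
      rw [hk] at h2
      exact h2
    exact h1
  · rw [card_code_syl, Subgroup.card_map_of_injective (MulAut.conj (pr m)).injective, hc]

variable {G : Type*} [Group G] [Finite G] {z s : G} (D : Data z)

/-- The joint centraliser. -/
def pairCent (z s : G) : Subgroup G := Subgroup.centralizer ({z, s} : Set G)

theorem mem_pairCent {x : G} : x ∈ pairCent z s ↔ x * z = z * x ∧ x * s = s * x := by
  simp only [pairCent, Subgroup.mem_centralizer_iff, Set.mem_insert_iff, Set.mem_singleton_iff,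
    forall_eq_or_imp, forall_eq, eq_comm (a := z * x), eq_comm (a := s * x)]

theorem pairCent_le : pairCent z s ≤ Subgroup.centralizer ({z} : Set G) := fun _ hx =>
  Subgroup.mem_centralizer_singleton_iff.2 (mem_pairCent.1 hx).1

theorem card_pairCent_eq :
    Nat.card ((pairCent z s).subgroupOf (Subgroup.centralizer ({z} : Set G))) =
      Nat.card (pairCent z s) :=
  Nat.card_congr (Subgroup.subgroupOfEquivOfLe pairCent_le).toEquiv

theorem stab_image (hs : s ∈ D.Q) (hs1 : s ≠ 1) (hsz : s ≠ z) {v : leechLattice}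
    (hv : D.cl s = cls (v : GolayPt → ℤ)) {g₀ : Co0} (h₀ : g₀ • v = eightAt none)
    {c : Subgroup.centralizer ({z} : Set G)} (hc : (c : G) ∈ pairCent z s) :
    pr g₀ * D.π c * (pr g₀)⁻¹ ∈ Ib := by
  obtain ⟨g, hg⟩ := exists_lift D c
  have hm := (cls_fix_iff_mono h₀ g).1 ((image_fix_iff D hs hs1 hsz hv g).1 ⟨c, ?_, hg⟩)
  · refine ⟨g₀ * g * g₀⁻¹, hm, ?_⟩
    rw [hg, map_mul, map_mul, map_inv]
    rfl
  · exact mul_inv_eq_iff_eq_mul.2 (mem_pairCent.1 hc).2

theorem three_part (hs : s ∈ D.Q) (hsz : s ≠ z) (hconj : IsConj z s) :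
    (Nat.card (pairCent z s)).factorization 3 = 3 := by
  obtain ⟨g, hg⟩ := isConj_iff.1 hconj
  obtain ⟨v, hv, hn⟩ := norm_of_conj D hs hsz hg
  obtain ⟨hs1, -⟩ := ne_of_cls D hs hv (Or.inr (Or.inr hn))
  obtain ⟨g₀, h₀⟩ := frame_transitive (v := v) (w := eightAt none) hn (sqNorm_eightAt none)
  rw [← card_pairCent_eq (z := z) (s := s)]
  set M := (pairCent z s).subgroupOf (Subgroup.centralizer ({z} : Set G))
  obtain ⟨-, -, -, -, K, hK, -, -, ⟨e⟩⟩ := conj_structure D hs hsz hg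
  have hle : K ≤ M.map D.π := fun x hx => by
    obtain ⟨c, hcs, hc⟩ := hK x hx
    exact ⟨c, mem_pairCent.2 ⟨Subgroup.mem_centralizer_singleton_iff.1 c.2,
      mul_inv_eq_iff_eq_mul.1 hcs⟩, hc⟩
  have h27 : 3 ^ 3 ∣ Nat.card K := by rw [Nat.card_congr e.toEquiv, card_M24]; norm_num
  have hd : 3 ^ 3 ∣ Nat.card M := h27.trans ((Subgroup.card_dvd_of_le hle).trans (Subgroup.card_map_dvd M D.π))
  have h81 : ¬ 3 ^ 4 ∣ Nat.card M := by
    intro hd4
    let I : Subgroup Spor.Co1 := Ib.map (MulAut.conj (pr g₀)⁻¹).toMonoidHom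
    have hI : ∀ x ∈ M, D.π x ∈ I := fun x hx => by
      refine ⟨_, stab_image D hs hs1 hsz hv h₀ (c := x) hx, ?_⟩
      simp [mul_assoc]
    have h1 := hd4.trans ((card_dvd_of_image D M hI).trans
      (Nat.mul_dvd_mul_left _ ((Subgroup.card_map_dvd Ib _).trans (Subgroup.card_map_dvd monoGroup pr))))
    rw [card_monoGroup] at h1
    norm_num at h1
  have e1 := (Nat.Prime.pow_dvd_iff_le_factorization Nat.prime_three Nat.card_pos.ne').1 hd
  have e2 : ¬ 4 ≤ (Nat.card M).factorization 3 := fun h =>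
    h81 ((Nat.Prime.pow_dvd_iff_le_factorization Nat.prime_three Nat.card_pos.ne').2 h)
  omega

/-- A frame in which the subgroup is generated by a lift of the chosen element. -/
theorem exists_standard (hs : s ∈ D.Q) (hsz : s ≠ z) (hconj : IsConj z s) {Y : Subgroup G}
    (hY3 : Nat.card Y = 3) (P : Sylow 3 (pairCent z s))
    (hY : ∀ y ∈ Y, ∃ hy : y ∈ pairCent z s, (⟨y, hy⟩ : pairCent z s) ∈ P ∧
      ∀ x ∈ P, (⟨y, hy⟩ : pairCent z s) * x = x * ⟨y, hy⟩) :
    ∃ (D' : Data z) (b : Subgroup.centralizer ({z} : Set G)),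
      D'.Q = D.Q ∧ orderOf (b : G) = 3 ∧ Y = Subgroup.zpowers (b : G) ∧
      D'.π b = QuotientGroup.mk S.rho ∧ D'.cl s = cls (eightAt none : GolayPt → ℤ) ∧
      (∀ x ∈ P, (∀ y ∈ P, x * y = y * x) → (x : G) ∈ Y) := by
  haveI : Fact (Nat.Prime 3) := ⟨Nat.prime_three⟩
  obtain ⟨g, hg⟩ := isConj_iff.1 hconj
  obtain ⟨v, hv, hn⟩ := norm_of_conj D hs hsz hg
  obtain ⟨hs1, -⟩ := ne_of_cls D hs hv (Or.inr (Or.inr hn))
  obtain ⟨g₀, h₀⟩ := frame_transitive (v := v) (w := eightAt none) hn (sqNorm_eightAt none)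
  have hP27 : Nat.card (P : Subgroup (pairCent z s)) = 27 := by
    rw [Sylow.card_eq_multiplicity, three_part D hs hsz hconj]; rfl
  let inC : pairCent z s →* Subgroup.centralizer ({z} : Set G) := Subgroup.inclusion pairCent_le
  let f : pairCent z s →* Spor.Co1 := ((MulAut.conj (pr g₀)).toMonoidHom.comp D.π).comp inC
  have hf : ∀ x, f x = pr g₀ * D.π (inC x) * (pr g₀)⁻¹ := fun x => rfl
  let fP : (P : Subgroup (pairCent z s)) →* Spor.Co1 := f.comp (P : Subgroup (pairCent z s)).subtype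
  have hfinj : Function.Injective fP := by
    rw [injective_iff_map_eq_one]
    intro x hx
    have h1 : D.π (inC x) = 1 := by
      have h := hx
      show _ = _
      simp only [fP, MonoidHom.comp_apply, hf] at h
      simpa using h
    have h2 := Subgroup.orderOf_dvd_natCard D.Q ((D.mem_ker _).1 h1)
    rw [D.card] at h2
    have h3 : orderOf x ∣ 27 := hP27 ▸ orderOf_dvd_natCard x
    have h4 : orderOf x = orderOf ((inC x : Subgroup.centralizer ({z} : Set G)) : G) :=
      (orderOf_injective ((pairCent z s).subtype.comp (P : Subgroup (pairCent z s)).subtype)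
        (fun a b e => Subtype.ext (Subtype.ext e)) x).symm
    rw [← h4] at h2
    have h5 := Nat.dvd_gcd h2 h3
    rw [show Nat.gcd (2 ^ 25) 27 = 1 by norm_num] at h5
    exact orderOf_eq_one_iff.1 (Nat.dvd_one.1 h5)
  have hrange : fP.range ≤ Ib := by
    rintro _ ⟨x, rfl⟩
    exact stab_image D hs hs1 hsz hv h₀ (c := inC x) (x : pairCent z s).2
  have hcard : Nat.card fP.range = 27 := by
    rw [← Nat.card_congr (MonoidHom.ofInjective hfinj).toEquiv, hP27]
  obtain ⟨m, hm, hmap⟩ := exists_conj_syl hrange hcard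
  set F : (P : Subgroup (pairCent z s)) →* Spor.Co1 := (MulAut.conj (pr m)).toMonoidHom.comp fP with hF
  have hFinj : Function.Injective F := (MulAut.conj (pr m)).injective.comp hfinj
  have hFr : F.range = P0.map codeHom := by rw [hF, MonoidHom.range_comp, hmap]
  have hcentral : ∀ x : (P : Subgroup (pairCent z s)), (∀ y, x * y = y * x) →
      F x = 1 ∨ F x = codeHom σ ∨ F x = codeHom σ ^ 2 := by
    intro x hx
    obtain ⟨e, he, hex⟩ : F x ∈ P0.map codeHom := hFr ▸ ⟨x, rfl⟩
    rw [← hex]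
    rcases central_P0 he fun y hy => codeHom_injective (by
      obtain ⟨u, hu⟩ : codeHom y ∈ F.range := hFr.symm ▸ Subgroup.mem_map_of_mem codeHom hy
      rw [map_mul, map_mul, hex, ← hu, ← map_mul, ← map_mul, hx]) with h | h | h
    · exact Or.inl (by rw [h, map_one])
    · exact Or.inr (Or.inl (by rw [h]))
    · exact Or.inr (Or.inr (by rw [h, map_pow]))
  obtain ⟨⟨y₀, hy₀Y⟩, hy₀⟩ := exists_prime_orderOf_dvd_card' (G := Y) 3 (by rw [hY3])
  rw [← Subgroup.orderOf_coe] at hy₀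
  obtain ⟨hy₀L, hy₀P, hy₀c⟩ := hY y₀ hy₀Y
  have hzY : ∀ x : G, x ∈ Y → orderOf x = 3 → Y = Subgroup.zpowers x := fun x hx ho =>
    (Subgroup.eq_of_le_of_card_ge (Subgroup.zpowers_le.2 hx) (by rw [hY3, Nat.card_zpowers, ho])).symm
  let yP : (P : Subgroup (pairCent z s)) := ⟨⟨y₀, hy₀L⟩, hy₀P⟩
  have hyc : ∀ u, yP * u = u * yP := fun u => Subtype.ext (hy₀c u.1 u.2)
  have hyP3 : orderOf yP = 3 := by rw [← Subgroup.orderOf_coe, ← Subgroup.orderOf_coe]; exact hy₀
  obtain ⟨k, hk, hkb⟩ : ∃ k : ℕ, ¬ 3 ∣ k ∧ F (yP ^ k) = codeHom σ := by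
    rcases hcentral yP hyc with e | e | e
    · exfalso
      have : yP = 1 := hFinj (e.trans (map_one F).symm)
      rw [this, orderOf_one] at hyP3
      omega
    · exact ⟨1, by norm_num, by rw [pow_one, e]⟩
    · refine ⟨2, by norm_num, ?_⟩
      rw [map_pow, e, ← pow_mul, ← map_pow]
      congr 1
      rw [show 2 * 2 = orderOf σ + 1 by rw [orderOf_σ], pow_succ, pow_orderOf_eq_one, one_mul]
  let bC : Subgroup.centralizer ({z} : Set G) := inC ((yP ^ k : (P : Subgroup (pairCent z s))) : pairCent z s)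
  have hbY : (bC : G) ∈ Y := by
    show (((yP ^ k : (P : Subgroup (pairCent z s))) : pairCent z s) : G) ∈ Y
    rw [SubmonoidClass.coe_pow, SubmonoidClass.coe_pow]
    exact pow_mem hy₀Y k
  have hb3 : orderOf (bC : G) = 3 := by
    show orderOf (((yP ^ k : (P : Subgroup (pairCent z s))) : pairCent z s) : G) = 3
    rw [Subgroup.orderOf_coe, Subgroup.orderOf_coe, Nat.Coprime.orderOf_pow (by
      rw [hyP3]; exact Nat.prime_three.coprime_iff_not_dvd.2 hk), hyP3]
  refine ⟨twist D (g₀⁻¹ * m⁻¹), bC, rfl, hb3, hzY _ hbY hb3, ?_, ?_, ?_⟩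
  · have e : pr m * (pr g₀ * D.π bC * (pr g₀)⁻¹) * (pr m)⁻¹ = codeHom σ := hkb
    rw [twist_π]
    show (pr (g₀⁻¹ * m⁻¹))⁻¹ * D.π bC * pr (g₀⁻¹ * m⁻¹) = pr S.rho
    rw [map_mul, map_inv, map_inv]
    calc ((pr g₀)⁻¹ * (pr m)⁻¹)⁻¹ * D.π bC * ((pr g₀)⁻¹ * (pr m)⁻¹) =
          pr m * (pr g₀ * D.π bC * (pr g₀)⁻¹) * (pr m)⁻¹ := by group
      _ = _ := e
  · show twistCl D _ s = _
    rw [twistCl_eq D _ hv, mul_inv_rev, inv_inv, inv_inv, mul_smul, h₀]
    exact (hm : m ∈ monoGroup)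
  · intro x hx hxc
    have h1 : (⟨x, hx⟩ : (P : Subgroup (pairCent z s))) ∈ Subgroup.zpowers (yP ^ k) := by
      rcases hcentral ⟨x, hx⟩ (fun u => Subtype.ext (hxc u.1 u.2)) with e | e | e
      · rw [hFinj (e.trans (map_one F).symm)]; exact one_mem _
      · rw [hFinj (e.trans hkb.symm)]; exact Subgroup.mem_zpowers _
      · rw [hFinj (e.trans (by rw [map_pow F (yP ^ k) 2, hkb] : codeHom σ ^ 2 = F ((yP ^ k) ^ 2)))]
        exact Subgroup.npow_mem_zpowers _ _
    obtain ⟨j, hj⟩ := Subgroup.mem_zpowers_iff.1 h1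
    have h2 := congrArg (fun u : (P : Subgroup (pairCent z s)) => ((u : pairCent z s) : G)) hj
    simp only [Subgroup.coe_zpow] at h2
    rw [← h2]
    exact zpow_mem hbY j

end CfsgLib.FiThree
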