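/-
The centraliser, inside the centraliser of the central involution, of a lift of the element of
order 3: its map onto the induced group and the extraspecial fixed subgroup of order 2¹³.
-/
import Cfsg.Agent.FiThree.Group
import Cfsg.Agent.FiThree.Gram
import Cfsg.Agent.FiThree.Standard
import Cfsg.Agent.Monster.NoncentralCentralizer

set_option autoImplicit false
set_option linter.style.haveILetI false
set_option linter.constructorNameAsVariable false
set_option maxRecDepth 100000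

namespace CfsgLib.FiThree

open Cfsg CfsgLib.Golay CfsgLib.Leech CfsgLib.Monster CfsgLib.LeechFix

attribute [local irreducible] shortVecs halfTable quarterTable codeFinset

/-- The map onto the induced group. -/
noncomputable def ψ : S.cent →* A := act.rangeRestrict

theorem ψ_eq_one_iff (g : S.cent) : ψ g = 1 ↔ act g = 1 :=
  ⟨fun h => congrArg Subtype.val h, fun h => Subtype.ext h⟩

theorem ψ_surjective : Function.Surjective ψ := act.rangeRestrict_surjective

theorem act_negAut (h : negAut ∈ S.cent) : act ⟨negAut, h⟩ = 1 := (act_eq_one_iff _).2 fun m _ => by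
  show cls ((negAut • S.vec' m : leechLattice) : GolayPt → ℤ) = _
  rw [negAut_smul, AddSubgroup.coe_neg, cls_neg (S.vec' m).2, S.cls_vec']

theorem act_rho : act ⟨S.rho, rho_cent⟩ = 1 := (act_eq_one_iff _).2 fun m _ => S.rho_fix m

theorem ψ_congr {g g' : S.cent}
    (h : (QuotientGroup.mk (g : Co0) : Spor.Co1) = QuotientGroup.mk (g' : Co0)) : ψ g = ψ g' := by
  have hc : (g : Co0)⁻¹ * g' ∈ Subgroup.center Co0 := QuotientGroup.eq.1 h
  have h1 : ψ (g⁻¹ * g') = 1 := by
    have hc' : (g : Co0)⁻¹ * g' ∈ (Subgroup.center Co0 : Set Co0) := hc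
    rw [center_eq] at hc'
    rw [ψ_eq_one_iff]
    rcases hc' with e | e
    · rw [show g⁻¹ * g' = 1 from Subtype.ext e, map_one]
    · have hn : negAut ∈ S.cent := S.mem_cent.2 (negAut_comm _).symm
      rw [show g⁻¹ * g' = ⟨negAut, hn⟩ from Subtype.ext (Set.mem_singleton_iff.1 e)]
      exact act_negAut hn
  rw [map_mul, map_inv] at h1
  exact inv_mul_eq_one.1 h1

theorem ψ_rho_mul (j : ℤ) (g : S.cent) : ψ ((⟨S.rho, rho_cent⟩ : S.cent) ^ j * g) = ψ g := by
  rw [map_mul, map_zpow, (ψ_eq_one_iff _).2 act_rho, one_zpow, one_mul]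

theorem ψ_ker {g : S.cent} (h : ψ g = 1) :
    (QuotientGroup.mk (g : Co0) : Spor.Co1) ∈ Subgroup.zpowers (QuotientGroup.mk S.rho : Spor.Co1) := by
  obtain ⟨-, -, -, -, -, -, -, -, -, hk⟩ := structure_A
  exact hk g ((ψ_eq_one_iff g).1 h)

variable {G : Type*} [Group G] [Finite G] {z : G} (D : Data z)
  {b : Subgroup.centralizer ({z} : Set G)} (hb : orderOf (b : G) = 3)
  (hπ : D.π b = QuotientGroup.mk S.rho)

include hb hπ

theorem comm_iff {q : G} (hq : q ∈ D.Q) {v : leechLattice} (hv : D.cl q = cls (v : GolayPt → ℤ)) :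
    (b : G) * q = q * (b : G) ↔
      cls ((S.rho • v : leechLattice) : GolayPt → ℤ) = cls (v : GolayPt → ℤ) :=
  comm_iff_fixed D hπ (by rw [hb]; decide) hq hv

omit hb in
theorem exists_cent {k : Subgroup.centralizer ({z} : Set G)}
    (hk : k ∈ Subgroup.centralizer ({b} : Set (Subgroup.centralizer ({z} : Set G)))) :
    ∃ g ∈ S.cent, D.π k = QuotientGroup.mk g := by
  obtain ⟨g, hg⟩ := exists_lift D k
  refine ⟨g, S.mem_cent.2 ?_, hg⟩
  have h1 : D.π k * D.π b = D.π b * D.π k := by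
    rw [← map_mul, ← map_mul, Subgroup.mem_centralizer_singleton_iff.1 hk]
  rw [hπ, hg] at h1
  have hc : (g * S.rho)⁻¹ * (S.rho * g) ∈ Subgroup.center Co0 := QuotientGroup.eq.1 h1
  set c := (g * S.rho)⁻¹ * (S.rho * g) with hcdef
  have e : g⁻¹ * S.rho * g = S.rho * c := by rw [hcdef]; group
  have h5 : S.rho ^ 3 = 1 := orderOf_rho ▸ pow_orderOf_eq_one S.rho
  have e5 : (g⁻¹ * S.rho * g) ^ 3 = 1 := by
    have := conj_pow (i := 3) (a := g⁻¹) (b := S.rho)
    rw [inv_inv, h5, mul_one, inv_mul_cancel] at this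
    exact this
  rw [e, (show Commute S.rho c from Subgroup.mem_center_iff.1 hc S.rho).mul_pow, h5, one_mul,
    show c ^ 3 = (c * c) * c by simp [pow_succ, mul_assoc], center_sq hc, one_mul] at e5
  rw [e5, mul_one] at e
  calc g * S.rho = g * (g⁻¹ * S.rho * g) := by rw [e]
    _ = S.rho * g := by group

omit hb in
/-- The map of the centraliser of the element to A₅ wr 2. -/
noncomputable def ψC : Subgroup.centralizer ({b} : Set (Subgroup.centralizer ({z} : Set G))) →* A :=
  MonoidHom.mk' (fun k => ψ ⟨(exists_cent D hπ k.2).choose, (exists_cent D hπ k.2).choose_spec.1⟩)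
    fun k l => by
      rw [← map_mul]
      refine ψ_congr ?_
      show (QuotientGroup.mk _ : Spor.Co1) = QuotientGroup.mk (_ * _)
      rw [← (exists_cent D hπ (k * l).2).choose_spec.2, QuotientGroup.mk_mul,
        ← (exists_cent D hπ k.2).choose_spec.2, ← (exists_cent D hπ l.2).choose_spec.2,
        Subgroup.coe_mul, map_mul]

theorem ψC_eq {k : Subgroup.centralizer ({b} : Set (Subgroup.centralizer ({z} : Set G)))}
    {g : S.cent} (h : D.π (k : Subgroup.centralizer ({z} : Set G)) = QuotientGroup.mk (g : Co0)) :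
    ψC D hπ k = ψ g := by
  refine ψ_congr ?_
  show (QuotientGroup.mk (exists_cent D hπ k.2).choose : Spor.Co1) = _
  rw [← (exists_cent D hπ k.2).choose_spec.2, h]

theorem ψC_surjective : Function.Surjective (ψC D hπ) := by
  intro p
  obtain ⟨g, rfl⟩ := ψ_surjective p
  obtain ⟨c, hc⟩ := D.surj (QuotientGroup.mk (g : Co0))
  obtain ⟨c', -, hc', j, hj⟩ := adjust D Nat.prime_three (by norm_num)
    (M := Subgroup.centralizer ({z} : Set G)) b.2 c.2 hb (a := 1) (by
      rw [pow_one, hc, hπ, mul_inv_eq_iff_eq_mul, ← QuotientGroup.mk_mul, ← QuotientGroup.mk_mul,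
        S.mem_cent.1 g.2])
  rw [pow_one] at hc'
  refine ⟨⟨c', Subgroup.mem_centralizer_singleton_iff.2
    (Subtype.ext (mul_inv_eq_iff_eq_mul.1 hc'))⟩, ?_⟩
  rw [ψC_eq D hb hπ (g := (⟨S.rho, rho_cent⟩ : S.cent) ^ j * g), ψ_rho_mul]
  show D.π c' = _
  rw [hj, hc, hπ, Subgroup.coe_mul, Subgroup.coe_zpow, QuotientGroup.mk_mul, QuotientGroup.mk_zpow]

theorem ψC_ker {k : Subgroup.centralizer ({b} : Set (Subgroup.centralizer ({z} : Set G)))}
    (h : ψC D hπ k = 1) :
    ∃ j : ℤ, ((k : Subgroup.centralizer ({z} : Set G)) : G) * ((b : G) ^ j)⁻¹ ∈ D.Q := by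
  have hg := (exists_cent D hπ k.2).choose_spec
  have h1 := ψ_ker (g := ⟨_, hg.1⟩) h
  rw [← hg.2, ← hπ, Subgroup.mem_zpowers_iff] at h1
  obtain ⟨j, hj⟩ := h1
  refine ⟨j, ?_⟩
  have := (D.mem_ker ((k : Subgroup.centralizer ({z} : Set G)) * (b ^ j)⁻¹)).1 (by
    rw [map_mul, map_inv, map_zpow, hj, mul_inv_cancel])
  simpa using this

theorem ψC_b (k : Subgroup.centralizer ({b} : Set (Subgroup.centralizer ({z} : Set G))))
    (hk : D.π (k : Subgroup.centralizer ({z} : Set G)) ∈ Subgroup.zpowers (D.π b)) :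
    ψC D hπ k = 1 := by
  obtain ⟨j, hj⟩ := Subgroup.mem_zpowers_iff.1 hk
  rw [ψC_eq D hb hπ (g := (⟨S.rho, rho_cent⟩ : S.cent) ^ j * 1), ψ_rho_mul, map_one]
  rw [← hj, hπ, mul_one, Subgroup.coe_zpow, QuotientGroup.mk_zpow]

/-- The fixed subgroup. -/
def R : Subgroup G := D.Q ⊓ Subgroup.centralizer ({(b : G)} : Set G)

omit [Finite G] hb hπ in
theorem mem_R {q : G} : q ∈ R D (b := b) ↔ q ∈ D.Q ∧ (b : G) * q = q * (b : G) := by
  simp [R, Subgroup.mem_inf, Subgroup.mem_centralizer_singleton_iff, eq_comm]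

omit [Finite G] hb hπ in
theorem z_mem_R : z ∈ R D (b := b) :=
  (mem_R D).2 ⟨D.gen.mem, Subgroup.mem_centralizer_singleton_iff.1 b.2⟩

theorem exists_R_mask {q : G} (hq : q ∈ R D (b := b)) :
    ∃ m < S.N, D.cl q = cls (S.vec' m : GolayPt → ℤ) := by
  obtain ⟨hqQ, hqb⟩ := (mem_R D).1 hq
  obtain ⟨v, hv⟩ := D.cl_rep q hqQ
  obtain ⟨m, hm, e⟩ := S.exists_mask ((comm_iff D hb hπ hqQ hv).1 hqb)
  exact ⟨m, hm, hv.trans e⟩

theorem exists_R_of_mask (m : ℕ) : ∃ q ∈ R D (b := b), D.cl q = cls (S.vec' m : GolayPt → ℤ) := by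
  obtain ⟨q, hq, hv⟩ := D.cl_surj (S.vec' m)
  exact ⟨q, (mem_R D).2 ⟨hq, (comm_iff D hb hπ hq hv).2 (S.rho_fix m)⟩, hv⟩

theorem card_R : Nat.card (R D (b := b)) = 2 ^ 13 := by
  choose q hq hcl using exists_R_of_mask D hb hπ
  let F : Fin S.N × Bool → R D (b := b) := fun x =>
    ⟨q x.1 * (if x.2 then z else 1), mul_mem (hq _) (by
      split; exacts [z_mem_R D, one_mem _])⟩
  have hQ : ∀ m, q m ∈ D.Q := fun m => ((mem_R D).1 (hq m)).1
  have hclF : ∀ m (e : Bool), D.cl (q m * (if e then z else 1)) = cls (S.vec' m : GolayPt → ℤ) := by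
    intro m e
    cases e
    · simp [hcl]
    · simp [cl_mul_z D (hQ m), hcl]
  have hbij : Function.Bijective F := by
    constructor
    · rintro ⟨m, e⟩ ⟨m', e'⟩ h
      have h' : q m * (if e then z else 1) = q m' * (if e' then z else 1) := congrArg Subtype.val h
      have hm : (m : ℕ) = m' := S.cl_inj m.2 m'.2 (by
        rw [← S.cls_vec', ← S.cls_vec', ← hclF m e, ← hclF m' e', h'])
      obtain rfl : m = m' := Fin.ext hm
      have h'' := mul_left_cancel h'
      refine Prod.ext rfl ?_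
      show e = e'
      cases e <;> cases e' <;> simp at h'' ⊢ <;>
        first | exact D.gen.ne_one h'' | exact D.gen.ne_one h''.symm
    · rintro ⟨r, hr⟩
      obtain ⟨m, hm, e⟩ := exists_R_mask D hb hπ hr
      rcases eq_or_mul_of_cl_eq D (hQ m) ((mem_R D).1 hr).1 ((hcl m).trans e.symm) with e' | e'
      · exact ⟨(⟨m, hm⟩, false), Subtype.ext (by simp [F, e'])⟩
      · exact ⟨(⟨m, hm⟩, true), Subtype.ext (by simp [F, e'])⟩
  rw [← Nat.card_eq_of_bijective F hbij, Nat.card_prod, Nat.card_fin, S_N,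
    Nat.card_eq_fintype_card, Fintype.card_bool]
  norm_num

theorem R_center {r : G} (hr : r ∈ R D (b := b)) (h : ∀ x ∈ R D (b := b), r * x = x * r) :
    r = 1 ∨ r = z := by
  obtain ⟨m, hm, e⟩ := exists_R_mask D hb hπ hr
  have hrQ := ((mem_R D).1 hr).1
  have hm0 : m = 0 := gram hm fun i hi => by
    obtain ⟨x, hx, ex⟩ := exists_R_of_mask D hb hπ (2 ^ i)
    exact (commute_iff D hrQ ((mem_R D).1 hx).1 e ex).1 (h x hx)
  subst hm0
  refine (D.cl_zero r hrQ).1 (e.trans ?_)
  rw [cls_zero]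
  exact clsM_zero S.hb

theorem R_noncomm : ∃ r ∈ R D (b := b), ∃ x ∈ R D (b := b), r * x ≠ x * r := by
  by_contra hne
  push Not at hne
  have hsub : (R D (b := b) : Set G) ⊆ {1, z} := fun r hr => by
    rcases R_center D hb hπ hr fun x hx => hne r hr x hx with e | e <;> simp [e]
  have h := Set.ncard_le_ncard hsub (Set.toFinite _)
  rw [← Nat.card_coe_set_eq, SetLike.coe_sort_coe, card_R D hb hπ] at h
  have : ({1, z} : Set G).ncard ≤ 2 := (Set.ncard_insert_le _ _).trans (by simp)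
  omega

theorem ψC_of_centralising
    {k : Subgroup.centralizer ({b} : Set (Subgroup.centralizer ({z} : Set G)))}
    (h : ∀ r ∈ R D (b := b), ((k : Subgroup.centralizer ({z} : Set G)) : G) * r *
      (((k : Subgroup.centralizer ({z} : Set G)) : G))⁻¹ = r) : ψC D hπ k = 1 := by
  obtain ⟨g, hg, hk⟩ := exists_cent D hπ k.2
  rw [ψC_eq D hb hπ (g := ⟨g, hg⟩) hk, ψ_eq_one_iff, act_eq_one_iff]
  intro m hm
  obtain ⟨r, hr, er⟩ := exists_R_of_mask D hb hπ m
  have h1 := D.act _ g hk r ((mem_R D).1 hr).1 _ er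
  rw [h r hr, er] at h1
  exact h1.symm.trans (S.cls_vec' m)

end CfsgLib.FiThree
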