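/-
An element centralising the element of order 3 and moving the central involution to its conjugate.
-/
import Cfsg.Agent.FiThree.Fixed

set_option autoImplicit false
set_option linter.style.haveILetI false
set_option linter.constructorNameAsVariable false

namespace CfsgLib.FiThree

open Cfsg CfsgLib.Golay CfsgLib.Leech CfsgLib.Monster CfsgLib.LeechFix

attribute [local irreducible] shortVecs halfTable quarterTable codeFinset

theorem tau_rho : permHom τ * S.rho * (permHom τ)⁻¹ = S.rho ^ 2 := by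
  show permHom τ * permHom σ * (permHom τ)⁻¹ = permHom σ ^ 2
  rw [← map_mul, ← map_inv, ← map_mul, ← map_pow, tau_conj]

variable {G : Type*} [Group G] [Finite G] {z s : G} (D : Data z)
  {b : Subgroup.centralizer ({z} : Set G)}

theorem exists_swap (hb : orderOf (b : G) = 3) (hπ : D.π b = QuotientGroup.mk S.rho)
    (hs : s ∈ D.Q) (hsz : s ≠ z) (hconj : IsConj z s)
    (hcs : D.cl s = cls (eightAt none : GolayPt → ℤ)) (P : Sylow 3 (pairCent z s))
    (hbP : ∃ hb' : (b : G) ∈ pairCent z s, (⟨(b : G), hb'⟩ : pairCent z s) ∈ P ∧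
      ∀ x ∈ P, (⟨(b : G), hb'⟩ : pairCent z s) * x = x * ⟨(b : G), hb'⟩)
    (hcen : ∀ x ∈ P, (∀ y ∈ P, x * y = y * x) → (x : G) ∈ Subgroup.zpowers (b : G)) :
    ∃ x : G, x * (b : G) = (b : G) * x ∧ x * z * x⁻¹ = s := by
  classical
  haveI : Fact (Nat.Prime 3) := ⟨Nat.prime_three⟩
  obtain ⟨hbL, hbPmem, hbc⟩ := hbP
  obtain ⟨g, hg⟩ := isConj_iff.1 hconj
  have hn : sqNorm (eightAt none : GolayPt → ℤ) = 64 := sqNorm_eightAt none
  obtain ⟨hs1, -⟩ := ne_of_cls D hs hcs (Or.inr (Or.inr hn))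
  -- an element exchanging the two involutions
  have ht := z_mem_conj D hs hsz hg
  have htz : g⁻¹ * z * g ≠ z := fun e => hsz (by
    rw [← hg]
    calc g * z * g⁻¹ = g * (g⁻¹ * z * g) * g⁻¹ := by rw [e]
      _ = z := by group)
  have htconj : g⁻¹ * z * (g⁻¹)⁻¹ = g⁻¹ * z * g := by rw [inv_inv]
  obtain ⟨w, hw, hwn⟩ := norm_of_conj D ht htz htconj
  obtain ⟨k₀, hk₀⟩ := frame_transitive (v := w) (w := eightAt none) hwn hn
  obtain ⟨ht1, -⟩ := ne_of_cls D ht hw (Or.inr (Or.inr hwn))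
  obtain ⟨c, -, hc⟩ := conj_of_cls D ht hs ht1 htz hw hcs (g := k₀) (by rw [hk₀])
  set g' := g * (c : G)⁻¹ with hg'
  have hcz : (c : G)⁻¹ * z * (c : G) = z := by
    have h := z_comm (inv_mem c.2)
    rwa [inv_inv] at h
  have h1 : g' * z * g'⁻¹ = s := by
    rw [← hg]
    calc g' * z * g'⁻¹ = g * ((c : G)⁻¹ * z * (c : G)) * g⁻¹ := by rw [hg']; group
      _ = g * z * g⁻¹ := by rw [hcz]
  have h2 : g' * s * g'⁻¹ = z := by
    calc g' * s * g'⁻¹ = g * ((c : G)⁻¹ * ((c : G) * (g⁻¹ * z * g) * (c : G)⁻¹) * (c : G)) * g⁻¹ := by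
          rw [hc, hg']; group
      _ = z := by group
  -- it acts on the joint centraliser
  have hmap : ∀ x : G, x ∈ pairCent z s → g' * x * g'⁻¹ ∈ pairCent z s := by
    intro x hx
    obtain ⟨hxz, hxs⟩ := mem_pairCent.1 hx
    refine mem_pairCent.2 ⟨?_, ?_⟩
    · calc g' * x * g'⁻¹ * z = g' * x * g'⁻¹ * (g' * s * g'⁻¹) := by rw [h2]
        _ = g' * (x * s) * g'⁻¹ := by group
        _ = g' * (s * x) * g'⁻¹ := by rw [hxs]
        _ = (g' * s * g'⁻¹) * (g' * x * g'⁻¹) := by group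
        _ = z * (g' * x * g'⁻¹) := by rw [h2]
    · calc g' * x * g'⁻¹ * s = g' * x * g'⁻¹ * (g' * z * g'⁻¹) := by rw [h1]
        _ = g' * (x * z) * g'⁻¹ := by group
        _ = g' * (z * x) * g'⁻¹ := by rw [hxz]
        _ = (g' * z * g'⁻¹) * (g' * x * g'⁻¹) := by group
        _ = s * (g' * x * g'⁻¹) := by rw [h1]
  let ad : pairCent z s →* pairCent z s :=
    { toFun := fun x => ⟨g' * x * g'⁻¹, hmap x x.2⟩
      map_one' := Subtype.ext (by simp)
      map_mul' := fun x y => Subtype.ext (by simp [mul_assoc]) }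
  have hadinj : Function.Injective ad := fun x y h => Subtype.ext (by
    have e : g' * (x : G) * g'⁻¹ = g' * (y : G) * g'⁻¹ := congrArg Subtype.val h
    exact mul_left_cancel (mul_right_cancel e))
  have hcardP : Nat.card ((P : Subgroup (pairCent z s)).map ad) =
      3 ^ (Nat.card (pairCent z s)).factorization 3 := by
    rw [Subgroup.card_map_of_injective hadinj, Sylow.card_eq_multiplicity]
  obtain ⟨l, hl⟩ := MulAction.exists_smul_eq (pairCent z s) (Sylow.ofCard _ hcardP) P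
  have hnorm : ∀ x ∈ P, l * ad x * l⁻¹ ∈ P := by
    intro x hx
    rw [← hl]
    show l * ad x * l⁻¹ ∈ ((l • Sylow.ofCard _ hcardP : Sylow 3 (pairCent z s)) : Subgroup (pairCent z s))
    rw [Sylow.coe_subgroup_smul]
    exact ⟨ad x, Subgroup.mem_map_of_mem ad hx, rfl⟩
  have honto : ∀ y ∈ P, ∃ x ∈ P, y = l * ad x * l⁻¹ := by
    intro y hy
    rw [← hl] at hy
    change y ∈ ((l • Sylow.ofCard _ hcardP : Sylow 3 (pairCent z s)) : Subgroup (pairCent z s)) at hy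
    rw [Sylow.coe_subgroup_smul] at hy
    obtain ⟨_, ⟨x, hx, rfl⟩, rfl⟩ := hy
    exact ⟨x, hx, rfl⟩
  have hcentre : (l : G) * (g' * (b : G) * g'⁻¹) * (l : G)⁻¹ ∈ Subgroup.zpowers (b : G) := by
    refine hcen _ (hnorm _ hbPmem) fun y hy => ?_
    obtain ⟨x, hx, rfl⟩ := honto y hy
    have e := hbc x hx
    calc l * ad ⟨(b : G), hbL⟩ * l⁻¹ * (l * ad x * l⁻¹) = l * ad (⟨(b : G), hbL⟩ * x) * l⁻¹ := by
          rw [map_mul]; group
      _ = l * ad x * l⁻¹ * (l * ad ⟨(b : G), hbL⟩ * l⁻¹) := by rw [e, map_mul]; group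
  obtain ⟨hlz, hls⟩ := mem_pairCent.1 l.2
  set g₂ := (l : G) * g' with hg₂
  have h4 : g₂ * z * g₂⁻¹ = s := by
    calc g₂ * z * g₂⁻¹ = (l : G) * (g' * z * g'⁻¹) * (l : G)⁻¹ := by rw [hg₂]; group
      _ = s := by rw [h1, hls, mul_inv_cancel_right]
  have h3 : g₂ * (b : G) * g₂⁻¹ ∈ Subgroup.zpowers (b : G) := by
    rw [show g₂ * (b : G) * g₂⁻¹ = (l : G) * (g' * (b : G) * g'⁻¹) * (l : G)⁻¹ by rw [hg₂]; group]
    exact hcentre
  rw [(isOfFinOrder_of_finite (b : G)).mem_zpowers_iff_mem_range_orderOf, hb] at h3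
  simp only [Finset.mem_image, Finset.mem_range] at h3
  obtain ⟨k, hk, hk'⟩ := h3
  interval_cases k
  · exfalso
    rw [pow_zero, eq_comm, mul_inv_eq_one] at hk'
    rw [mul_eq_left.1 hk', orderOf_one] at hb
    omega
  · exact ⟨g₂, mul_inv_eq_iff_eq_mul.1 (by rw [← hk', pow_one]), h4⟩
  · -- an inverting element
    obtain ⟨c₂, hc₂s, hc₂⟩ := (image_fix_iff D hs hs1 hsz hcs (permHom τ)).2 (permHom_mem τ)
    obtain ⟨y, hyL, hy, -, -⟩ := adjust D Nat.prime_three (by norm_num) (M := pairCent z s) (b := b) (c := c₂)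
      hbL (mem_pairCent.2 ⟨Subgroup.mem_centralizer_singleton_iff.1 c₂.2,
        mul_inv_eq_iff_eq_mul.1 hc₂s⟩) hb (a := 2) (by
        rw [hc₂, hπ]
        show QuotientGroup.mk' (Subgroup.center Co0) (permHom τ) * QuotientGroup.mk' _ S.rho *
          (QuotientGroup.mk' _ (permHom τ))⁻¹ = (QuotientGroup.mk' _ S.rho) ^ 2
        rw [← map_mul, ← map_inv, ← map_mul, ← map_pow, tau_rho])
    obtain ⟨-, hys⟩ := mem_pairCent.1 hyL
    refine ⟨(y : G) * g₂, mul_inv_eq_iff_eq_mul.1 ?_, ?_⟩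
    · calc (y : G) * g₂ * (b : G) * ((y : G) * g₂)⁻¹ = (y : G) * (g₂ * (b : G) * g₂⁻¹) * (y : G)⁻¹ := by group
        _ = ((y : G) * (b : G) * (y : G)⁻¹) ^ 2 := by rw [← hk', conj_pow]
        _ = (b : G) := by
          rw [hy, ← pow_mul, show 2 * 2 = orderOf (b : G) + 1 by rw [hb], pow_succ, pow_orderOf_eq_one, one_mul]
    · calc (y : G) * g₂ * z * ((y : G) * g₂)⁻¹ = (y : G) * (g₂ * z * g₂⁻¹) * (y : G)⁻¹ := by group
        _ = s := by rw [h4, hys, mul_inv_cancel_right]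

end CfsgLib.FiThree
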