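import Cfsg.Agent.FiThree.Swap

/-!
The element of order 3 is a commutator in its centraliser and is inverted inside the centraliser of the central
involution.
-/

set_option autoImplicit false
set_option linter.style.haveILetI false
set_option linter.constructorNameAsVariable false
set_option maxRecDepth 100000

namespace CfsgLib.FiThree

open Cfsg CfsgLib.Golay CfsgLib.Leech CfsgLib.Monster CfsgLib.LeechFix CfsgLib.Golay.Cert

open scoped commutatorElement

attribute [local irreducible] shortVecs halfTable quarterTable codeFinset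

theorem syl_comm_ok : compL sylA sylB = compL sig3 (compL sylB sylA) ∧
    compL sylA sig3 = compL sig3 sylA ∧ compL sylB sig3 = compL sig3 sylB := by
  decide +kernel

theorem pA_pB : pA * pB = σ * (pB * pA) ∧ pA * σ = σ * pA ∧ pB * σ = σ * pB := by
  obtain ⟨h1, h2, h3⟩ := syl_comm_ok
  refine ⟨toList_coe_injective ?_, toList_coe_injective ?_, toList_coe_injective ?_⟩ <;>
    simp only [Subgroup.coe_mul, toList_mul, toList_pA, toList_pB, toList_σ] <;> assumption

variable {G : Type*} [Group G] [Finite G] {z : G} (D : Data z)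
  {b : Subgroup.centralizer ({z} : Set G)}

theorem exists_lift_conj (hb : orderOf (b : G) = 3) (hπ : D.π b = QuotientGroup.mk S.rho) {x : M24} {a : ℕ}
    (hx : x * σ * x⁻¹ = σ ^ a) :
    ∃ c : Subgroup.centralizer ({z} : Set G), (c : G) * b * (c : G)⁻¹ = (b : G) ^ a ∧
      ∃ j : ℤ, D.π c = D.π b ^ j * QuotientGroup.mk (permHom x) := by
  obtain ⟨c, hc⟩ := D.surj (QuotientGroup.mk (permHom x))
  obtain ⟨c', -, e, j, hj⟩ := adjust D Nat.prime_three (by norm_num)
    (M := Subgroup.centralizer ({z} : Set G)) b.2 c.2 hb (a := a) (by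
      rw [hc, hπ]
      show QuotientGroup.mk' (Subgroup.center Co0) (permHom x) * QuotientGroup.mk' _ (permHom σ) *
        (QuotientGroup.mk' _ (permHom x))⁻¹ = (QuotientGroup.mk' _ (permHom σ)) ^ a
      rw [← map_mul, ← map_inv, ← map_mul, ← map_pow, ← map_mul, ← map_inv, ← map_mul, hx, map_pow])
  exact ⟨c', e, j, by rw [hj, hc]⟩

/-- The element lies in the commutator subgroup of its centraliser. -/
theorem mem_commutator (hb : orderOf (b : G) = 3) (hπ : D.π b = QuotientGroup.mk S.rho) :
    (b : G) ∈ ⁅Subgroup.centralizer ({(b : G)} : Set G), Subgroup.centralizer ({(b : G)} : Set G)⁆ := by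
  obtain ⟨h1, hA, hB⟩ := pA_pB
  obtain ⟨a, ea, i, ha⟩ := exists_lift_conj D hb hπ (x := pA) (a := 1) (by rw [pow_one, hA, mul_inv_cancel_right])
  obtain ⟨c, ec, j, hc⟩ := exists_lift_conj D hb hπ (x := pB) (a := 1) (by rw [pow_one, hB, mul_inv_cancel_right])
  rw [pow_one, mul_inv_eq_iff_eq_mul] at ea ec
  have hba : Commute (D.π b) (D.π a) :=
    (show Commute b a from Subtype.ext ea.symm).map D.π
  have hbc : Commute (D.π b) (D.π c) :=
    (show Commute b c from Subtype.ext ec.symm).map D.π
  have hπe : D.π ⁅a, c⁆ = D.π b := by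
    set u : Spor.Co1 := QuotientGroup.mk (permHom pA)
    set v : Spor.Co1 := QuotientGroup.mk (permHom pB)
    have hu : Commute (D.π b) u := by
      have h := ((Commute.refl (D.π b)).zpow_right i).inv_right.mul_right hba
      rwa [ha, inv_mul_cancel_left] at h
    have hv : Commute (D.π b) v := by
      have h := ((Commute.refl (D.π b)).zpow_right j).inv_right.mul_right hbc
      rwa [hc, inv_mul_cancel_left] at h
    have huv : u * v = D.π b * (v * u) := by
      rw [hπ]
      show QuotientGroup.mk' (Subgroup.center Co0) (permHom pA) * QuotientGroup.mk' _ (permHom pB) =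
        QuotientGroup.mk' _ (permHom σ) * (QuotientGroup.mk' _ (permHom pB) * QuotientGroup.mk' _ (permHom pA))
      rw [← map_mul, ← map_mul, h1, map_mul, map_mul, map_mul, map_mul]
    rw [map_commutatorElement, commutatorElement_def, mul_inv_eq_iff_eq_mul, mul_inv_eq_iff_eq_mul, ha, hc]
    have hi : Commute (D.π b ^ i) v := hv.zpow_left i
    have hj : Commute (D.π b ^ j) u := hu.zpow_left j
    calc D.π b ^ i * u * (D.π b ^ j * v) = D.π b ^ i * D.π b ^ j * (u * v) := by
          rw [hj.symm.mul_mul_mul_comm]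
      _ = D.π b * (D.π b ^ j * D.π b ^ i) * (v * u) := by
          rw [huv, ← zpow_add, ← zpow_add, ← mul_assoc, add_comm i j, ((Commute.refl (D.π b)).zpow_right (j + i)).eq]
      _ = D.π b * (D.π b ^ j * v) * (D.π b ^ i * u) := by
          rw [mul_assoc (D.π b) (D.π b ^ j * v), hi.symm.mul_mul_mul_comm, mul_assoc (D.π b)]
  set C := Subgroup.centralizer ({(b : G)} : Set G)
  have hq : ((b⁻¹ * ⁅a, c⁆ : Subgroup.centralizer ({z} : Set G)) : G) ∈ D.Q :=
    (D.mem_ker _).1 (by rw [map_mul, map_inv, hπe, inv_mul_cancel])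
  set q := ((b⁻¹ * ⁅a, c⁆ : Subgroup.centralizer ({z} : Set G)) : G) with hqdef
  have hbq : (b : G) * q = ⁅(a : G), (c : G)⁆ := by
    rw [hqdef, Subgroup.coe_mul, Subgroup.coe_inv, mul_inv_cancel_left]
    exact map_commutatorElement (Subgroup.centralizer ({z} : Set G)).subtype a c
  have hmem : (b : G) * q ∈ ⁅C, C⁆ := hbq ▸ Subgroup.commutator_mem_commutator
    (Subgroup.mem_centralizer_singleton_iff.2 ea) (Subgroup.mem_centralizer_singleton_iff.2 ec)
  have hcomm : Commute (b : G) q := by
    have h := Subgroup.mem_centralizer_singleton_iff.1 (Subgroup.commutator_le_self C hmem)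
    exact (mul_left_cancel (h.symm.trans (mul_assoc _ _ _)))
  have hq4 : q ^ 4 = 1 := by
    rw [show 4 = 2 * 2 by norm_num, pow_mul, pow_two q]
    rcases D.gen.square q hq with e | e
    · rw [e, one_pow]
    · rw [e, pow_two, D.gen.sq]
  have := pow_mem hmem 4
  rwa [hcomm.mul_pow, hq4, mul_one, show 4 = orderOf (b : G) + 1 by rw [hb], pow_succ, pow_orderOf_eq_one,
    one_mul] at this

/-- An element of the centraliser of the involution inverts the element. -/
theorem exists_inverting (hb : orderOf (b : G) = 3) (hπ : D.π b = QuotientGroup.mk S.rho) :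
    ∃ y : G, y * (b : G) * y⁻¹ = (b : G) ^ 2 := by
  obtain ⟨c, hc, -⟩ := exists_lift_conj D hb hπ (x := τ) (a := 2) tau_conj
  exact ⟨c, hc⟩

end CfsgLib.FiThree
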