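import Cfsg.Agent.FiThree.Data

/-!
Short vectors checked against a run of consecutive selected sums.
-/

set_option autoImplicit false

namespace CfsgLib.FiThree

open CfsgLib.LeechFix

/-- One short vector represents a selected sum. -/
def repB (v : List ℤ) (m : ℕ) : Bool :=
  decide (m = 0) || (memB v && (normL v == 32 || normL v == 48 || normL v == 64) && congB v (combV bas m))

/-- A run of short vectors represents consecutive selected sums. -/
def runB : List (List ℤ) → ℕ → Bool
  | [], _ => true
  | v :: l, m => repB v m && runB l (m + 1)

theorem runB_append : ∀ (a b : List (List ℤ)) (m : ℕ),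
    runB (a ++ b) m = (runB a m && runB b (m + a.length))
  | [], b, m => by simp [runB]
  | v :: a, b, m => by
    rw [List.cons_append, runB, runB, runB_append a b (m + 1), List.length_cons, Bool.and_assoc,
      show m + 1 + a.length = m + (a.length + 1) by ring]

theorem runB_getD : ∀ (l : List (List ℤ)) (m : ℕ), runB l m = true → ∀ i < l.length,
    repB (l.getD i []) (m + i) = true
  | [], _, _, _, h => absurd h (Nat.not_lt_zero _)
  | v :: l, m, h, 0, _ => by
    rw [runB, Bool.and_eq_true] at h
    simpa using h.1
  | v :: l, m, h, i + 1, hi => by
    rw [runB, Bool.and_eq_true] at h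
    rw [List.getD_cons_succ, show m + (i + 1) = m + 1 + i by ring]
    exact runB_getD l (m + 1) h.2 i (by simpa using hi)

/-- The number of vectors of squared length 64 in a run. -/
def count64 (l : List (List ℤ)) : ℕ := l.countP fun v => normL v == 64

end CfsgLib.FiThree
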