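import Cfsg.Agent.FiThree.RepsCheck

/-!
A part of the check of the short vectors.
-/

set_option autoImplicit false
set_option maxRecDepth 100000

namespace CfsgLib.FiThree

open CfsgLib.LeechFix

theorem run0 : runB (List.map decVec repCodes0) 0 = true := by decide +kernel

theorem run1 : runB (List.map decVec repCodes1) 128 = true := by decide +kernel

theorem run2 : runB (List.map decVec repCodes2) 256 = true := by decide +kernel

theorem run3 : runB (List.map decVec repCodes3) 384 = true := by decide +kernel

theorem run4 : runB (List.map decVec repCodes4) 512 = true := by decide +kernel

theorem run5 : runB (List.map decVec repCodes5) 640 = true := by decide +kernel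

theorem run6 : runB (List.map decVec repCodes6) 768 = true := by decide +kernel

theorem run7 : runB (List.map decVec repCodes7) 896 = true := by decide +kernel

end CfsgLib.FiThree
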